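import Cfsg.Agent.H266.TwoSide
import Cfsg.Agent.H267.ThmA

/-!
# Extremely closed abelian `p`-subgroups of order at least three (helper266)

* `EC.fac_big` : `G = N_G(H) O_{p'}(G)` if `H` is an extremely closed abelian `p`-subgroup of order at least three
  (from helper267's Theorem A);
* `EC.fac` : the same for every extremely closed abelian `p`-subgroup.
-/

set_option autoImplicit false
set_option linter.style.haveILetI false

namespace Cfsg.Agent.H266

open Subgroup Cfsg

universe u

namespace EC

variable {G : Type u} [Group G] {p : ℕ} {H : Subgroup G}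

theorem normalClosure_eq_top [Finite G] [Fact p.Prime] (h : EC p H) (ih : IH p G)
    (hc' : pPrimeCore p G = ⊥) (hc : pCore p G = ⊥) (hne : H ≠ ⊥) :
    normalClosure (H : Set G) = ⊤ := by
  by_contra htop
  set N := normalClosure (H : Set G) with hN
  haveI hNn : N.Normal := normalClosure_normal
  have hHN : H ≤ N := le_normalClosure
  have hcore : pPrimeCore p N = ⊥ := by
    have h1 := Lib.Cores.map_subtype_pPrimeCore p hNn
    rw [hc', inf_bot_eq] at h1
    exact (Subgroup.map_eq_bot_iff_of_injective _ N.subtype_injective).1 h1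
  have h1 := h.le_normalizer_of_lt ih N hHN htop hcore
  have h2 : (H.subgroupOf N).Normal := normal_subgroupOf_of_le_normalizer h1
  have h3 : H.subgroupOf N ≤ pCore p N :=
    Lib.Cores.le_pCore h2 (h.pg.of_equiv (subgroupOfEquivOfLe hHN).symm)
  have h4 := Lib.Cores.map_subtype_pCore p hNn
  rw [hc, inf_bot_eq] at h4
  have h5 : pCore p N = ⊥ := (Subgroup.map_eq_bot_iff_of_injective _ N.subtype_injective).1 h4
  rw [h5, le_bot_iff, subgroupOf_eq_bot] at h3
  exact hne (by rw [← inf_eq_left.2 hHN]; exact h3.eq_bot)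

theorem false_of_big [Finite G] [Fact p.Prime] (h : EC p H) (ih : IH p G) (hF : ¬ Fac p H)
    (h3 : 3 ≤ Nat.card H) : False := by
  obtain ⟨hc', hc, -⟩ := h.step ih hF
  have hne : H ≠ ⊥ := by
    rintro rfl
    rw [card_bot] at h3
    omega
  have hcen : ∀ w ∈ H, (∀ g : G, g * w = w * g) → w = 1 := by
    intro w hw hcw
    obtain ⟨k, hk⟩ := h.pg ⟨w, hw⟩
    exact eq_one_of_central hc (k := k) (congrArg Subtype.val hk) hcw
  have hyp : H267.ThmA.Hyp p H := by
    refine ⟨h.ab, h.pg, fun g => ?_⟩
    obtain ⟨Q, hQ, hTQ, hHQ, hQN, k, hk, hkg⟩ := h.exists_core g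
    have hHQn : H ≤ normalizer (Q : Set G) := le_sup_left.trans hTQ
    refine ⟨Q, hQ, fun w hw x hx => mem_pow_conj (hHQn hw) hx, ?_, k⁻¹, inv_mem hk, hkg⟩
    intro w hw hw1 u hu hwu
    have hCne : centralizer ({w} : Set G) ≠ ⊤ := by
      intro htop
      refine hw1 (hcen w hw fun g => ?_)
      have hg : g ∈ centralizer ({w} : Set G) := by rw [htop]; trivial
      exact mem_centralizer_singleton_iff.1 hg
    have hHw : H ≤ centralizer ({w} : Set G) := fun x hx =>
      mem_centralizer_singleton_iff.2 (h.ab x hx w hw)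
    refine h.le_th ih hw hCne (R := Q ⊓ centralizer ({w} : Set G)) ?_ inf_le_right ?_ ?_
      (mem_inf.2 ⟨hu, mem_centralizer_singleton_iff.2 hwu.symm⟩)
    · exact Nat.Coprime.coprime_dvd_left (card_dvd_of_le inf_le_left) hQ
    · exact Lib.MinNormal.le_normalizer_inf hHQn (hHw.trans le_normalizer)
    · have h1 : Q ⊓ centralizer ({w} : Set G) ⊓ centralizer (H : Set G) ≤ Q ⊓ normalizer (H : Set G) :=
        le_inf (inf_le_left.trans inf_le_left) (inf_le_right.trans (centralizer_le_normalizer _))
      rw [hQN, le_bot_iff] at h1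
      rw [h1]
      exact bot_le
  have hcl := h.normalClosure_eq_top ih hc' hc hne
  obtain ⟨w, hw, hw1⟩ := (Subgroup.ne_bot_iff_exists_ne_one.1 hne : ∃ w : H, w ≠ 1) |>.elim
    fun w hw => (⟨w, w.2, fun h => hw (Subtype.ext h)⟩ : ∃ w ∈ H, w ≠ 1)
  refine hw1 (hcen w hw fun g => ?_)
  have h1 := H267.ThmA.thmA hyp hcl h3 hw g
  rw [hc', mem_bot] at h1
  have h2 : w * g * w⁻¹ = g := mul_inv_eq_one.1 h1
  exact (mul_inv_eq_iff_eq_mul.1 h2).symm

theorem fac_aux [Fact p.Prime] (hp : p ≠ 2) : ∀ (n : ℕ) (G : Type u) [Group G] [Finite G] (H : Subgroup G),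
    EC p H → Nat.card G ≤ n → Fac p H := by
  intro n
  induction n with
  | zero =>
    intro G _ _ H _ hn
    have : 0 < Nat.card G := Nat.card_pos
    omega
  | succ n ihn =>
    intro G _ _ H h hn
    by_cases hne : H = ⊥
    · subst hne
      exact fac_of_normal inferInstance
    by_contra hF
    refine h.false_of_big ?_ hF ?_
    · intro G' _ _ H' h' hlt
      exact ihn G' H' h' (by omega)
    · obtain ⟨k, hk⟩ := h.pg.exists_card_eq
      have hp2 : 3 ≤ p := by
        have := (Fact.out : p.Prime).two_le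
        omega
      rcases Nat.eq_zero_or_pos k with h0 | h0
      · exfalso
        rw [h0, pow_zero] at hk
        exact hne (H.eq_bot_of_card_le hk.le)
      · rw [hk]
        exact hp2.trans (Nat.le_self_pow h0.ne' p)

/-- **The factorization `G = N_G(H) O_{p'}(G)`.** -/
theorem fac [Finite G] [Fact p.Prime] (h : EC p H) : Fac p H := by
  by_cases hp : p = 2
  · subst hp
    exact h.fac_two
  · exact fac_aux hp (Nat.card G) G H h le_rfl

end EC

end Cfsg.Agent.H266
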