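import Cfsg.Agent.H266.Fixed
import Cfsg.Agent.H266.Odd
import Cfsg.Agent.H593.GlaubermanP
import Cfsg.Agent.H594.Glau

/-!
# Extremely closed abelian `p`-subgroups, `p` odd: no fixed points in `[R, H]` (helper266)

* `EC.commutator_inf_centralizer` : `[R, H] ⊓ C_G(H) = ⊥` for `R` a normal `p'`-subgroup;
* `EC.normalClosure_le` : `⟨H^G⟩ ≤ [R, H] H`, `R = O_{p'}(G)`;
* `EC.normalClosure_inf` : `⟨H^G⟩ ⊓ N_G(H) = H`.
-/

set_option autoImplicit false
set_option linter.style.haveILetI false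

namespace Cfsg.Agent.H266

open Subgroup Cfsg Cfsg.Agent.Characters Cfsg.Agent.Characters.Core
open scoped ComplexConjugate commutatorElement

universe u

theorem dvd_of_isIntegral {n p : ℕ} (hp : p ≠ 0) {a : ℂ} (ha : IsIntegral ℤ a) (h : (n : ℂ) = p * a) :
    p ∣ n := by
  have h1 : a = algebraMap ℚ ℂ ((n : ℚ) / p) := by
    have : (p : ℂ) ≠ 0 := Nat.cast_ne_zero.2 hp
    rw [map_div₀, map_natCast, map_natCast, h]
    field_simp
  rw [h1, isIntegral_algebraMap_iff (algebraMap ℚ ℂ).injective] at ha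
  obtain ⟨z, hz⟩ := IsIntegrallyClosed.isIntegral_iff.1 ha
  have h2 : (n : ℚ) = p * z := by
    have : (p : ℚ) ≠ 0 := Nat.cast_ne_zero.2 hp
    have hz' : (z : ℚ) = (n : ℚ) / p := hz
    rw [hz']
    field_simp
  have h3 : (n : ℤ) = p * z := by exact_mod_cast h2
  exact Int.natCast_dvd_natCast.1 ⟨z, h3⟩

namespace EC

variable {G : Type u} [Group G] {p : ℕ} {H R : Subgroup G}

theorem commutator_inf_centralizer_aux [Finite G] [Fact p.Prime] (hp : p ≠ 2) (h : EC p H) (hRn : R.Normal)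
    (hR : (Nat.card R).Coprime p) (htop : R ⊔ H = ⊤) : ⁅R, H⁆ ⊓ centralizer (H : Set G) = ⊥ := by
  classical
  rw [eq_bot_iff]
  rintro c hc
  obtain ⟨hc1, hc2⟩ := mem_inf.1 hc
  rw [mem_bot]
  by_contra hne
  letI : Fintype R := Fintype.ofFinite R
  haveI : Finite (IrrCharacter R) := finite_irr
  letI : Fintype (IrrCharacter R) := Fintype.ofFinite _
  have hcR : c ∈ R := (commutator_le_left R H) hc1
  set c' : R := ⟨c, hcR⟩ with hc'
  have hc'ne : c' ≠ 1 := fun h1 => hne (congrArg Subtype.val h1)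
  have hnorm : ∀ s ∈ H, ∀ g ∈ R, s * g * s⁻¹ ∈ R := fun s _ g hg => hRn.conj_mem g hg s
  letI act : MulAction H (IrrCharacter R) := MulAction.compHom _ ((H594.Glau.autPerm R).comp (H594.Glau.conjAut R H hnorm))
  have hact : ∀ (s : H) (χ : IrrCharacter R), s • χ = H594.Glau.autPerm R (H594.Glau.conjAut R H hnorm s) χ :=
    fun _ _ => rfl
  have hint : ∀ χ : IrrCharacter R,
      IsIntegral ℤ ((χ : R → ℂ) 1 * ((χ : R → ℂ) 1 - conj ((χ : R → ℂ) c'))) := by
    intro χ
    have h1 : ∀ g, IsIntegral ℤ ((χ : R → ℂ) g) := fun g => Cfsg.Agent.Blocks.Central.isIntegral_irr χ.2 g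
    rw [← isCharacter_apply_inv (isIrr_isCharacter χ.2)]
    exact (h1 1).mul ((h1 1).sub (h1 _))
  let f : IrrCharacter R → integralClosure ℤ ℂ := fun χ => ⟨_, hint χ⟩
  have hfinv : ∀ (s : H) (χ : IrrCharacter R), f (s • χ) = f χ := by
    intro s χ
    apply Subtype.ext
    change ((s • χ : IrrCharacter R) : R → ℂ) 1 *
      (((s • χ : IrrCharacter R) : R → ℂ) 1 - conj (((s • χ : IrrCharacter R) : R → ℂ) c')) =
      (χ : R → ℂ) 1 * ((χ : R → ℂ) 1 - conj ((χ : R → ℂ) c'))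
    have e1 := H594.Glau.autPerm_apply_apply (H594.Glau.conjAut R H hnorm s) χ 1
    have e2 := H594.Glau.autPerm_apply_apply (H594.Glau.conjAut R H hnorm s) χ c'
    rw [map_one] at e1
    have e3 : H594.Glau.conjAut R H hnorm s c' = c' := by
      apply Subtype.ext
      rw [H594.Glau.conjAut_apply]
      have := mem_centralizer_iff.1 hc2 (s : G) s.2
      change (s : G) * c * (s : G)⁻¹ = c
      rw [this, mul_inv_cancel_right]
    rw [e3] at e2
    rw [hact, e1, e2]
  obtain ⟨a, ha⟩ := Cfsg.Agent.Blocks.OrbitSum.sum_eq_sum_fixed_add_smul (p := p) h.pg f hfinv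
  have hzero : ∑ ω ∈ Finset.univ.filter (· ∈ MulAction.fixedPoints H (IrrCharacter R)), f ω = 0 := by
    refine Finset.sum_eq_zero fun χ hχ => ?_
    have h1 : ∀ s : H, H594.Glau.autPerm R (H594.Glau.conjAut R H hnorm s) χ = χ :=
      fun s => (Finset.mem_filter.1 hχ).2 s
    have h2 := (H594.Glau.invariant_iff R H hnorm χ).2 h1
    have h3 := ker_aux hp (Nat.card G) G H R h hRn hR htop le_rfl χ χ.2 h2 c' hc1
    apply Subtype.ext
    change (χ : R → ℂ) 1 * ((χ : R → ℂ) 1 - conj ((χ : R → ℂ) c')) = 0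
    obtain ⟨d, -, hd⟩ := isIrr_apply_one χ.2
    rw [h3, hd]
    simp
  rw [hzero, zero_add] at ha
  have hsum : ((∑ χ : IrrCharacter R, f χ : integralClosure ℤ ℂ) : ℂ) = Nat.card R := by
    have e1 := H593.GlaubermanP.sum_idem (G := R) 1
    have e2 := H593.GlaubermanP.sum_idem (G := R) c'
    rw [if_pos rfl] at e1
    rw [if_neg hc'ne] at e2
    have hcard : (Nat.card R : ℂ) ≠ 0 := card_ne_zero_complex
    have e3 : ∀ χ : IrrCharacter R, ((f χ : integralClosure ℤ ℂ) : ℂ) =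
        (Nat.card R : ℂ) * (H593.GlaubermanP.idem χ 1 - H593.GlaubermanP.idem χ c') := by
      intro χ
      obtain ⟨d, -, hd⟩ := isIrr_apply_one χ.2
      rw [H593.GlaubermanP.idem_apply, H593.GlaubermanP.idem_apply]
      change (χ : R → ℂ) 1 * ((χ : R → ℂ) 1 - conj ((χ : R → ℂ) c')) = _
      rw [hd]
      have : conj (d : ℂ) = d := by simp
      rw [this]
      field_simp
    rw [AddSubmonoidClass.coe_finsetSum, Finset.sum_congr rfl fun χ _ => e3 χ, ← Finset.mul_sum,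
      Finset.sum_sub_distrib, e1, e2, sub_zero, mul_one]
  have h5 : (Nat.card R : ℂ) = p * (a : ℂ) := by
    rw [← hsum, ha, nsmul_eq_mul]
    simp
  have h6 := dvd_of_isIntegral (Fact.out : p.Prime).ne_zero a.2 h5
  exact ((Nat.Prime.coprime_iff_not_dvd (Fact.out : p.Prime)).1 hR.symm) h6

theorem commutator_inf_centralizer [Finite G] [Fact p.Prime] (hp : p ≠ 2) (h : EC p H) (hRn : R.Normal)
    (hR : (Nat.card R).Coprime p) : ⁅R, H⁆ ⊓ centralizer (H : Set G) = ⊥ := by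
  obtain ⟨L, hL⟩ : ∃ L : Subgroup G, R ⊔ H = L := ⟨_, rfl⟩
  have hHL : H ≤ L := hL ▸ le_sup_right
  have hRL : R ≤ L := hL ▸ le_sup_left
  have htop : R.subgroupOf L ⊔ H.subgroupOf L = ⊤ := by rw [← subgroupOf_sup hRL hHL, hL, subgroupOf_self]
  have hcard : (Nat.card (R.subgroupOf L)).Coprime p := by
    rwa [Nat.card_congr (subgroupOfEquivOfLe hRL).toEquiv]
  have h1 := (h.subgroupOf hHL).commutator_inf_centralizer_aux hp inferInstance hcard htop
  rw [eq_bot_iff]
  rintro c hc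
  obtain ⟨hc1, hc2⟩ := mem_inf.1 hc
  have e : ⁅R, H⁆ = (⁅R.subgroupOf L, H.subgroupOf L⁆).map L.subtype := by
    rw [map_commutator, subgroupOf_map_subtype, subgroupOf_map_subtype, inf_eq_left.2 hRL, inf_eq_left.2 hHL]
  rw [e] at hc1
  obtain ⟨c', hc', rfl⟩ := hc1
  have h2 : c' ∈ ⁅R.subgroupOf L, H.subgroupOf L⁆ ⊓ centralizer ((H.subgroupOf L : Subgroup L) : Set L) := by
    refine mem_inf.2 ⟨hc', mem_centralizer_iff.2 fun x hx => Subtype.ext ?_⟩
    exact mem_centralizer_iff.1 hc2 x (mem_subgroupOf.1 hx)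
  rw [h1, mem_bot] at h2
  rw [h2]
  exact one_mem _

theorem le_norm_sup {N A B : Subgroup G} (hA : N ≤ normalizer (A : Set G))
    (hB : N ≤ normalizer (B : Set G)) : N ≤ normalizer ((A ⊔ B : Subgroup G) : Set G) := by
  rw [sup_eq_iSup]
  refine Lib.MinNormal.le_normalizer_iSup fun b => ?_
  cases b
  · exact hB
  · exact hA

theorem le_norm_comm {N A B : Subgroup G} (hA : N ≤ normalizer (A : Set G))
    (hB : N ≤ normalizer (B : Set G)) : N ≤ normalizer ((⁅A, B⁆ : Subgroup G) : Set G) := by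
  have key : ∀ n ∈ N, ∀ x ∈ ⁅A, B⁆, n * x * n⁻¹ ∈ ⁅A, B⁆ := by
    intro n hn
    have h3 : ⁅A, B⁆ ≤ (⁅A, B⁆ : Subgroup G).comap (MulAut.conj n).toMonoidHom := by
      rw [commutator_le]
      intro a ha b hb
      rw [mem_comap]
      have e : (MulAut.conj n).toMonoidHom ⁅a, b⁆ = ⁅n * a * n⁻¹, n * b * n⁻¹⁆ := by
        change n * ⁅a, b⁆ * n⁻¹ = _
        rw [commutatorElement_def, commutatorElement_def]; group
      rw [e]
      exact commutator_mem_commutator (mem_pow_conj (hA hn) ha) (mem_pow_conj (hB hn) hb)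
    exact fun x hx => h3 hx
  intro n hn
  rw [mem_normalizer_iff]
  refine fun x => ⟨key n hn x, fun hx => ?_⟩
  have := key n⁻¹ (inv_mem hn) _ hx
  simpa [mul_assoc] using this

theorem normal_sup (hRn : R.Normal) (hfac : normalizer (H : Set G) ⊔ R = ⊤) : (H ⊔ ⁅R, H⁆).Normal := by
  rw [← normalizer_eq_top_iff, eq_top_iff, ← hfac]
  refine sup_le (le_norm_sup le_rfl (le_norm_comm ?_ le_rfl)) ?_
  · rw [normalizer_eq_top_iff.2 hRn]
    exact le_top
  · have key : ∀ r ∈ R, ∀ x ∈ H ⊔ ⁅R, H⁆, r * x * r⁻¹ ∈ H ⊔ ⁅R, H⁆ := by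
      intro r hr x hx
      obtain ⟨a, ha, b, hb, rfl⟩ := mem_sup_norm (Lib.CoprimeCommutator.right_le_normalizer_commutator R H) hx
      have e : r * (a * b) * r⁻¹ = ⁅r, a⁆ * a * (r * b * r⁻¹) := by rw [commutatorElement_def]; group
      rw [e]
      exact mul_mem (mul_mem (mem_sup_right (commutator_mem_commutator hr ha)) (mem_sup_left ha))
        (mem_sup_right (mem_pow_conj (Lib.CoprimeCommutator.left_le_normalizer_commutator R H hr) hb))
    intro r hr
    rw [mem_normalizer_iff]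
    refine fun x => ⟨key r hr x, fun hx => ?_⟩
    have := key r⁻¹ (inv_mem hr) _ hx
    simpa [mul_assoc] using this

theorem normalClosure_le (hRn : R.Normal) (hfac : normalizer (H : Set G) ⊔ R = ⊤) :
    normalClosure (H : Set G) ≤ H ⊔ ⁅R, H⁆ := by
  haveI := normal_sup hRn hfac
  exact normalClosure_le_normal (SetLike.coe_subset_coe.2 le_sup_left)

theorem normalClosure_inf [Finite G] [Fact p.Prime] (hp : p ≠ 2) (h : EC p H) :
    normalClosure (H : Set G) ⊓ normalizer (H : Set G) = H := by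
  have hRn : (pPrimeCore p G).Normal := inferInstance
  have hR : (Nat.card (pPrimeCore p G)).Coprime p := Lib.Cores.pPrimeCore_coprime p
  refine le_antisymm ?_ (le_inf le_normalClosure le_normalizer)
  intro x hx
  obtain ⟨hx1, hx2⟩ := mem_inf.1 hx
  have h1 := normalClosure_le hRn h.fac hx1
  obtain ⟨a, ha, b, hb, rfl⟩ := mem_sup_norm (Lib.CoprimeCommutator.right_le_normalizer_commutator _ _) h1
  have hbn : b ∈ normalizer (H : Set G) := by
    have := mul_mem (inv_mem (le_normalizer ha)) hx2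
    rwa [inv_mul_cancel_left] at this
  have hbR : b ∈ pPrimeCore p G := commutator_le_left _ _ hb
  have hb1 : b ∈ ⁅pPrimeCore p G, H⁆ ⊓ centralizer (H : Set G) := by
    refine mem_inf.2 ⟨hb, mem_centralizer_iff.2 fun y hy => ?_⟩
    have h2 : b * y * b⁻¹ * y⁻¹ ∈ H := mul_mem (mem_pow_conj hbn hy) (inv_mem hy)
    have h3 : b * y * b⁻¹ * y⁻¹ ∈ pPrimeCore p G := by
      have e : b * y * b⁻¹ * y⁻¹ = b * (y * b⁻¹ * y⁻¹) := by group
      rw [e]
      exact mul_mem hbR (hRn.conj_mem _ (inv_mem hbR) y)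
    have h4 : b * y * b⁻¹ * y⁻¹ ∈ H ⊓ pPrimeCore p G := mem_inf.2 ⟨h2, h3⟩
    rw [inf_eq_bot h.pg hR, mem_bot] at h4
    have h5 : b * y * b⁻¹ = y := mul_inv_eq_one.1 h4
    exact (mul_inv_eq_iff_eq_mul.1 h5).symm
  rw [h.commutator_inf_centralizer hp hRn hR, mem_bot] at hb1
  rw [hb1, mul_one]
  exact ha

end EC

end Cfsg.Agent.H266
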