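import Cfsg.Agent.H266.Four
import Cfsg.Agent.H266.PslEven
import Cfsg.Agent.HoltZ.Base
import Cfsg.Agent.SectRankFour.AutSz8
import Cfsg.Agent.Walter.Irreducible
import Cfsg.Agent.TwoFusion.ClosedCommutator
import Cfsg.Agent.TwoFusion.PSLTwoGood
import Cfsg.Agent.ClassicalGeometry.PSL2Basic
import Cfsg.Agent.S1169
import Cfsg.Agent.S0506

/-!
# A strongly closed four-group with property `Star` in a simple group
-/

set_option autoImplicit false
set_option linter.style.haveILetI false

namespace Cfsg.Agent.H266.Four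

open Subgroup Cfsg Cfsg.Agent.ThreePrime.AbelianBasic

universe u

theorem Star.not_stronglyEmbedded {G : Type*} [Group G] [Finite G] {E : Subgroup G} (h : Star E)
    (h4 : Nat.card E = 4) (hsq : ∀ x ∈ E, x * x = 1) (M : Subgroup G) : ¬ IsStronglyEmbedded M := by
  haveI : Fact (Nat.Prime 2) := ⟨Nat.prime_two⟩
  intro hM
  have hEp : IsPGroup 2 E := by
    rw [IsPGroup.iff_card]
    exact ⟨2, by rw [h4]; norm_num⟩
  obtain ⟨S, hES⟩ := hEp.exists_le_sylow
  obtain ⟨P, hPM⟩ := SectRankFour.AutSz8.exists_sylow_le hM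
  obtain ⟨g, hg⟩ := MulAction.exists_smul_eq G P S
  set M' := M.map (MulAut.conj g).toMonoidHom with hM'd
  have hM' : IsStronglyEmbedded M' := HoltZ.isStronglyEmbedded_map (MulAut.conj g) hM
  have hEM : E ≤ M' := by
    refine hES.trans ?_
    rw [← hg]
    exact Subgroup.map_mono hPM
  obtain ⟨a, haE, ha1, -⟩ := exists_ne_of_card (show 2 < Nat.card E by omega) 1
  refine hM'.1 (h.eq_top h4 hsq ?_ ?_)
  · intro n hn
    by_contra hnM
    refine SectRankFour.AutSz8.not_mem_conj hM' hEp hEM haE ha1 hnM ?_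
    have := (mem_normalizer_iff.1 (inv_mem hn) a).1 haE
    rw [inv_inv] at this
    exact hEM this
  · intro b hb hb1 c hc
    by_contra hcM
    refine SectRankFour.AutSz8.not_mem_conj hM' hEp hEM hb hb1 hcM ?_
    have h1 := mem_centralizer_singleton_iff.1 hc
    have h2 : c⁻¹ * b * c = b := by rw [mul_assoc, ← h1]; group
    rw [h2]; exact hEM hb

theorem star_map {G H : Type*} [Group G] [Group H] (e : G ≃* H) {E : Subgroup G} (h : Star E) :
    Star (E.map e.toMonoidHom) := by
  intro g
  obtain ⟨Q, hQ, hEQ, k, hk, hkg⟩ := h (e.symm g)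
  have key : ∀ (A : Subgroup G) (x : G), x ∈ normalizer (A : Set G) →
      e x ∈ normalizer ((A.map e.toMonoidHom : Subgroup H) : Set H) := by
    intro A x hx
    rw [mem_normalizer_iff] at hx ⊢
    intro y
    obtain ⟨z, rfl⟩ := e.surjective y
    have h1 : ∀ w : G, e w ∈ A.map e.toMonoidHom ↔ w ∈ A := fun w =>
      Subgroup.mem_map_iff_mem (f := e.toMonoidHom) e.injective
    rw [h1, ← map_inv, ← map_mul, ← map_mul, h1]
    exact hx z
  refine ⟨Q.map e.toMonoidHom, ?_, ?_, e k, ⟨k, hk, rfl⟩, ?_⟩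
  · rw [card_map_of_injective e.injective]; exact hQ
  · rintro _ ⟨x, hx, rfl⟩
    exact key Q x (hEQ hx)
  · have h1 := key E _ hkg
    rw [map_mul, map_inv, MulEquiv.apply_symm_apply] at h1
    exact h1

theorem not_normal_of_simple {X : Type*} [Group X] [Finite X] [IsSimpleGroup X]
    (hna : ∃ a b : X, a * b ≠ b * a) {E : Subgroup X} (h4 : Nat.card E = 4)
    (hsq : ∀ x ∈ E, x * x = 1) : normalizer (E : Set X) ≠ ⊤ := by
  intro htop
  rcases (normalizer_eq_top_iff.1 htop).eq_bot_or_eq_top with h | h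
  · rw [h, card_bot] at h4; omega
  · obtain ⟨a, b, hab⟩ := hna
    have := comm_of_sq hsq a (by rw [h]; trivial) b (by rw [h]; trivial)
    exact hab this

theorem two_part {n k : ℕ} (h : n = 8 * k) (hk : Odd k) {X : Type*} [Group X] [Finite X]
    (hX : Nat.card X = n) (S : Sylow 2 X) : Nat.card (S : Subgroup X) = 8 := by
  haveI : Fact (Nat.Prime 2) := ⟨Nat.prime_two⟩
  rw [S.card_eq_multiplicity, hX, h]
  have h1 : (8 * k).factorization 2 = 3 := by
    have hk0 : k ≠ 0 := by rintro rfl; exact absurd hk (by decide)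
    rw [Nat.factorization_mul (by norm_num) hk0]
    have h8 : (8 : ℕ) = 2 ^ 3 := by norm_num
    have h2 : k.factorization 2 = 0 :=
      Nat.factorization_eq_zero_of_not_dvd (fun hd => (Nat.not_even_iff_odd.2 hk) (even_iff_two_dvd.2 hd))
    rw [Finsupp.add_apply, h2, h8, Nat.Prime.factorization_pow Nat.prime_two]
    simp
  rw [h1]; norm_num

/-- The case `PSL₂(q)`, `q ≡ 3, 5 (mod 8)`. -/
theorem false_of_psl {X : Type*} [Group X] [Finite X] [IsSimpleGroup X]
    (hna : ∃ a b : X, a * b ≠ b * a) {E : Subgroup X} (h : Star E) (h4 : Nat.card E = 4)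
    (hsq : ∀ x ∈ E, x * x = 1) {F : Type*} [Field F] [Fintype F]
    (hF : Fintype.card F % 8 = 3 ∨ Fintype.card F % 8 = 5)
    (e : X ≃* Matrix.ProjectiveSpecialLinearGroup (Fin 2) F) : False := by
  haveI : Fact (Nat.Prime 2) := ⟨Nat.prime_two⟩
  set Y := Matrix.ProjectiveSpecialLinearGroup (Fin 2) F with hY
  haveI : Nontrivial Y := e.symm.toEquiv.nontrivial
  haveI : IsSimpleGroup Y := IsSimpleGroup.isSimpleGroup_of_surjective e.toMonoidHom e.surjective
  haveI : Finite Y := Finite.of_equiv X e.toEquiv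
  have hnaY : ∃ a b : Y, a * b ≠ b * a := by
    obtain ⟨a, b, hab⟩ := hna
    refine ⟨e a, e b, fun h1 => hab (e.injective ?_)⟩
    rw [map_mul, map_mul, h1]
  set E' : Subgroup Y := E.map e.toMonoidHom with hE'
  have hst : Star E' := star_map e h
  have h4' : Nat.card E' = 4 := by rw [hE', card_map_of_injective e.injective, h4]
  have hsq' : ∀ x ∈ E', x * x = 1 := by
    rintro _ ⟨x, hx, rfl⟩
    have : e (x * x) = 1 := by rw [hsq x hx, map_one]
    rw [map_mul] at this
    exact this
  have hEp : IsPGroup 2 E' := by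
    rw [IsPGroup.iff_card]
    exact ⟨2, by rw [h4']; norm_num⟩
  obtain ⟨S, hES⟩ := hEp.exists_le_sylow
  have hSK : IsKleinFour (S : Subgroup Y) := S0276.result rfl hF S
  have hSE : (S : Subgroup Y) = E' :=
    (eq_of_le_of_card_ge hES (by rw [hSK.card_four, h4'])).symm
  have hodd : Odd (Fintype.card F) := by
    rw [Nat.odd_iff]; omega
  have h2 : (2 : F) ≠ 0 := ClassicalGeometry.SLTwoFour.two_ne_zero_of_odd hodd
  have hcent : ∀ a ∈ (S : Subgroup Y), a ≠ 1 →
      Nat.card (centralizer ({a} : Set Y)) ≤ Fintype.card F + 1 := by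
    intro a ha ha1
    have hoa : orderOf a = 2 := orderOf_eq_prime (by rw [pow_two]; exact hsq' a (hSE ▸ ha)) ha1
    rw [TwoFusion.PSLTwoGood.card_centralizer hodd hoa]
    have := ClassicalGeometry.SLTwoFour.card_circle_add (F := F) hodd
    omega
  have hle := Star.card_le (S := S) (by rw [hSE]; exact hst) (by rw [hSE]; exact h4')
    (by rw [hSE]; exact hsq') hcent
  have h12 := ClassicalGeometry.PSL2Klein.card_klein (F := F) h2
  have hcard := ClassicalGeometry.PSL2Basic.card_PSL2_odd F hodd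
  set q := Fintype.card F with hq
  set N := Nat.card {V : Subgroup Y // IsKleinFour V} with hN
  have hq3 : 3 ≤ q := by omega
  obtain ⟨t, ht⟩ := Nat.exists_eq_add_of_le hq3
  have h24 : 24 * N = q * (q ^ 2 - 1) := by
    rw [← hcard, ← h12]; ring
  have hqq : q ^ 2 - 1 = (t + 2) * (t + 4) := by
    rw [ht]
    have : (3 + t) ^ 2 = (t + 2) * (t + 4) + 1 := by ring
    omega
  rw [hqq, ht] at h24
  rw [ht] at hle
  have h5 : 64 * ((3 + t) * ((t + 2) * (t + 4))) ≤ 24 * (3 + t + 1) ^ 3 := by
    rw [← h24]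
    calc 64 * (24 * N) = 24 * (64 * N) := by ring
      _ ≤ 24 * (3 + t + 1) ^ 3 := Nat.mul_le_mul_left _ hle
  have h6 : 8 * ((3 + t) * (t + 2)) ≤ 3 * (t + 4) ^ 2 := by
    have h7 : (8 * (t + 4)) * (8 * ((3 + t) * (t + 2))) ≤ (8 * (t + 4)) * (3 * (t + 4) ^ 2) := by
      calc (8 * (t + 4)) * (8 * ((3 + t) * (t + 2))) = 64 * ((3 + t) * ((t + 2) * (t + 4))) := by ring
        _ ≤ 24 * (3 + t + 1) ^ 3 := h5
        _ = (8 * (t + 4)) * (3 * (t + 4) ^ 2) := by ring
    exact Nat.le_of_mul_le_mul_left h7 (by omega)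
  have ht0 : t = 0 := by
    by_contra hne
    have h8 : 1 ≤ t := Nat.one_le_iff_ne_zero.2 hne
    nlinarith
  rw [ht0] at h24
  have hN1 : N = 1 := by omega
  refine not_normal_of_simple hnaY h4' hsq' ?_
  rw [eq_top_iff]
  intro g _
  refine mem_normalizer_fintype (S := (E' : Set Y)) fun x hx => ?_
  have hEK : IsKleinFour E' := hSE ▸ hSK
  have hV : IsKleinFour (E'.map (MulAut.conj g).toMonoidHom : Subgroup Y) := by
    have hinj : Function.Injective (MulAut.conj g).toMonoidHom := (MulAut.conj g).injective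
    refine ⟨by rw [card_map_of_injective hinj]; exact hEK.card_four, ?_⟩
    rw [← Monoid.exponent_eq_of_mulEquiv (E'.equivMapOfInjective _ hinj)]
    exact hEK.exponent_two
  have huniq := (Nat.card_eq_one_iff_unique.1 hN1).1
  have h9 := huniq.elim (⟨E', hEK⟩ : {V : Subgroup Y // IsKleinFour V}) ⟨_, hV⟩
  have h10 : E' = E'.map (MulAut.conj g).toMonoidHom := congrArg Subtype.val h9
  have h11 : g * x * g⁻¹ ∈ E'.map (MulAut.conj g).toMonoidHom := ⟨x, hx, by simp⟩
  rw [← h10] at h11
  exact h11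

/-- **The end**: a strongly closed Klein four-group with property `Star` does not exist in a simple group. -/
theorem false_of_star {X : Type u} [Group X] [Finite X] [IsSimpleGroup X]
    (hna : ∃ a b : X, a * b ≠ b * a) {E : Subgroup X} (h : Star E) (h4 : Nat.card E = 4)
    (hsq : ∀ x ∈ E, x * x = 1) (S : Sylow 2 X) (hsc : IsStronglyClosed E (S : Subgroup X)) :
    False := by
  haveI : Fact (Nat.Prime 2) := ⟨Nat.prime_two⟩
  have hcomm := comm_of_sq hsq
  have hE1 : E ≠ ⊥ := by rintro rfl; rw [card_bot] at h4; omega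
  have hEc : IsMulCommutative E := ⟨⟨fun a b => Subtype.ext (hcomm a a.2 b b.2)⟩⟩
  have hnab : ¬ IsMulCommutative X := by
    intro hc
    obtain ⟨a, b, hab⟩ := hna
    exact hab (hc.is_comm.comm a b)
  rcases S1169.result S E hE1 hEc hsc with hS | ⟨M, hM⟩
  swap
  · exact h.not_stronglyEmbedded h4 hsq M hM
  have hS' : ∀ x ∈ (S : Subgroup X), ∀ y ∈ (S : Subgroup X), x * y = y * x := fun x hx y hy =>
    congrArg Subtype.val (hS.is_comm.comm (⟨x, hx⟩ : (S : Subgroup X)) ⟨y, hy⟩)
  have hPF : Walter.Irreducible.ProductFusion S := fun A B hAB hA hB =>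
    TwoFusion.ClosedCommutator.commutator_le S A B hAB hA hB
  have hEom : E ≤ om (S : Subgroup X) hS' := fun x hx => ⟨hsc.1 hx, hsq x hx⟩
  have hNE : normalizer ((S : Subgroup X) : Set X) ≤ normalizer (E : Set X) := by
    intro n hn
    refine mem_normalizer_fintype (S := (E : Set X)) fun x hx => ?_
    exact hsc.2 x hx n ((mem_normalizer_iff.1 hn x).1 (hsc.1 hx))
  have hom : E = om (S : Subgroup X) hS' :=
    (Walter.Irreducible.eq_bot_or_eq hna S hS' hPF hEom hNE).resolve_left hE1
  -- the order of the Sylow subgroup is not 8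
  have hne8 : Nat.card (S : Subgroup X) ≠ 8 := by
    intro h8
    rcases Walter.Irreducible.elementary_or_squares hna S hS' hPF with hel | hsquare
    · have : (S : Subgroup X) ≤ E := by
        rw [hom]
        exact fun x hx => ⟨hx, hel x hx⟩
      have := Subgroup.card_le_of_le this
      omega
    · let φ : (S : Subgroup X) →* (S : Subgroup X) :=
        { toFun := fun u => u * u
          map_one' := one_mul 1
          map_mul' := by
            intro u v
            have h1 := hS.is_comm.comm u v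
            calc u * v * (u * v) = u * (v * u) * v := by group
              _ = u * (u * v) * v := by rw [h1]
              _ = u * u * (v * v) := by group }
      have hker : Nat.card φ.ker = 4 := by
        rw [← h4]
        refine Nat.card_congr
          { toFun := fun x => ⟨x.1, by rw [hom]; exact ⟨x.1.2, congrArg Subtype.val x.2⟩⟩
            invFun := fun x => ⟨⟨x.1, hsc.1 x.2⟩, Subtype.ext (hsq x.1 x.2)⟩
            left_inv := fun x => rfl
            right_inv := fun x => rfl }
      have hrange : 4 ≤ Nat.card φ.range := by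
        rw [← h4]
        refine Nat.card_le_card_of_injective
          (fun x : E => (⟨⟨x.1, hsc.1 x.2⟩, ?_⟩ : φ.range)) ?_
        · obtain ⟨u, hu, huu⟩ := hsquare x.1 (hsc.1 x.2) (hsq x.1 x.2)
          exact ⟨⟨u, hu⟩, Subtype.ext huu⟩
        · intro x y hxy
          have h1 := congrArg (fun z : φ.range => ((z : (S : Subgroup X)) : X)) hxy
          exact Subtype.ext h1
      have hprod := φ.ker.card_mul_index
      rw [Subgroup.index_ker, hker, h8] at hprod
      omega
  rcases S0506.result hnab S hS with ⟨a, ha, F, _, _, hF, ⟨e⟩⟩ | ⟨F, _, _, hF, ⟨e⟩⟩ | hRee | hJ1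
  · -- characteristic two
    haveI : CharP F 2 := by
      obtain ⟨p, hp⟩ := CharP.exists F
      haveI := hp
      have hpp : p.Prime := CharP.char_is_prime F p
      obtain ⟨n, _, hn⟩ := FiniteField.card F p
      have h2 : p = 2 := by
        have h1 : p ∣ 2 ^ a := by rw [← hF, hn]; exact dvd_pow_self p n.ne_zero
        exact (Nat.prime_dvd_prime_iff_eq hpp Nat.prime_two).1 (hpp.dvd_of_dvd_pow h1)
      subst h2
      exact hp
    refine not_normal_of_simple hna h4 hsq (h.eq_top h4 hsq le_rfl ?_)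
    intro x hx hx1
    have hCsq : ∀ y ∈ centralizer ({x} : Set X), y * y = 1 := by
      intro y hy
      have h1 := mem_centralizer_singleton_iff.1 hy
      apply e.injective
      rw [map_mul, map_one]
      refine PslEven.sq_of_comm (x := e x) ?_ ?_ ?_
      · rw [← map_mul, hsq x hx, map_one]
      · intro h2
        exact hx1 (e.injective (by rw [h2, map_one]))
      · rw [← map_mul, ← map_mul, h1]
    have hCc := comm_of_sq hCsq
    intro c hc
    refine mem_normalizer_fintype (S := (E : Set X)) fun y hy => ?_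
    have hyC : y ∈ centralizer ({x} : Set X) :=
      mem_centralizer_singleton_iff.2 (hcomm y hy x hx)
    have h1 : c * y * c⁻¹ = y := by rw [hCc c hc y hyC]; group
    rw [h1]; exact hy
  · -- odd characteristic
    exact false_of_psl hna h h4 hsq hF e
  · obtain ⟨_, m, hm, hcard⟩ := hRee
    have h9 : 3 ^ (2 * m + 1) % 8 = 3 := by
      rw [pow_succ, pow_mul, Nat.mul_mod, Nat.pow_mod]
      norm_num
    obtain ⟨j, hj⟩ : ∃ j, 3 ^ (2 * m + 1) = 8 * j + 3 := ⟨3 ^ (2 * m + 1) / 8, by omega⟩
    rw [hj] at hcard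
    have h10 : 8 * j + 3 - 1 = 8 * j + 2 := by omega
    rw [h10] at hcard
    refine hne8 (two_part (k := (8 * j + 3) ^ 3 * ((2 * j + 1) * (64 * j ^ 2 + 40 * j + 7) * (4 * j + 1)))
      ?_ ?_ hcard S)
    · ring
    · refine Odd.mul (Odd.pow ⟨4 * j + 1, by ring⟩) (Odd.mul (Odd.mul ⟨j, by ring⟩ ?_) ⟨2 * j, by ring⟩)
      exact ⟨32 * j ^ 2 + 20 * j + 3, by ring⟩
  · exact hne8 (two_part (k := 21945) (by norm_num) (by decide) hJ1.2 S)

end Cfsg.Agent.H266.Four
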