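import Cfsg.Agent.H266.Simple
import Cfsg.Agent.H266.FourEnd
import Cfsg.Agent.Intrinsic.Functor
import Cfsg.Agent.S0205
import Cfsg.Agent.H571.SylowNumber
import Cfsg.Agent.OddOrderLocal.FittingHall
import Cfsg.Agent.SignalizersComponents.CoprimeBasic

/-!
# Extremely closed abelian 2-subgroups: the factorization
-/

set_option autoImplicit false
set_option linter.style.haveILetI false

namespace Cfsg.Agent.H266

open Subgroup Cfsg Cfsg.Agent.ThreePrime.AbelianBasic

universe u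

theorem exists_unique_of_card_two {G : Type*} [Group G] {E : Subgroup G} (h : Nat.card E = 2) :
    ∃ z ∈ E, z ≠ 1 ∧ ∀ w ∈ E, w ≠ 1 → w = z := by
  obtain ⟨x, y, hxy, hall⟩ := Nat.card_eq_two_iff.1 h
  have h1 : ∀ w : E, w = x ∨ w = y := fun w => by
    have : w ∈ ({x, y} : Set E) := by rw [hall]; trivial
    simpa using this
  rcases h1 1 with h2 | h2
  · refine ⟨y, y.2, fun h3 => hxy (by rw [← h2]; exact Subtype.ext h3.symm), fun w hw hw1 => ?_⟩
    rcases h1 ⟨w, hw⟩ with h4 | h4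
    · exact absurd (congrArg Subtype.val (h4.trans h2.symm)) hw1
    · exact congrArg Subtype.val h4
  · refine ⟨x, x.2, fun h3 => hxy (by rw [← h2]; exact Subtype.ext h3), fun w hw hw1 => ?_⟩
    rcases h1 ⟨w, hw⟩ with h4 | h4
    · exact congrArg Subtype.val h4
    · exact absurd (congrArg Subtype.val (h4.trans h2.symm)) hw1

namespace EC

variable {G : Type u} [Group G] {p : ℕ} {H : Subgroup G}

/-- Fusion of elements of `H` is controlled by `N(H)`. -/
theorem fus [Finite G] [Fact p.Prime] (h : EC p H) {x g : G} (hx : x ∈ H) (hg : g * x * g⁻¹ ∈ H) :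
    ∃ n ∈ normalizer (H : Set G), n * x * n⁻¹ = g * x * g⁻¹ := by
  obtain ⟨Q, hQ, hTQ, -, -, k, hk, hn⟩ := h.exists_core g
  refine ⟨k⁻¹ * g, hn, ?_⟩
  set n := k⁻¹ * g with hnd
  have hy : n * x * n⁻¹ ∈ H := mem_pow_conj hn hx
  have h1 : g * x * g⁻¹ = k * (n * x * n⁻¹) * k⁻¹ := by rw [hnd]; group
  set y := n * x * n⁻¹ with hyd
  have h2 : k * y * k⁻¹ * y⁻¹ ∈ H := mul_mem (h1 ▸ hg) (inv_mem hy)
  have h3 : k * y * k⁻¹ * y⁻¹ ∈ Q := by
    have h4 : y * k⁻¹ * y⁻¹ ∈ Q := mem_pow_conj (hTQ (mem_sup_left hy)) (inv_mem hk)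
    have h5 : k * y * k⁻¹ * y⁻¹ = k * (y * k⁻¹ * y⁻¹) := by group
    rw [h5]; exact mul_mem hk h4
  have h6 : k * y * k⁻¹ * y⁻¹ ∈ H ⊓ Q := mem_inf.2 ⟨h2, h3⟩
  rw [inf_eq_bot h.pg hQ, mem_bot] at h6
  rw [h1, mul_inv_eq_one.1 h6]

/-- A nontrivial element of order a power of `p` is not central if the cores are trivial. -/
theorem eq_one_of_central [Finite G] [Fact p.Prime] (hc : pCore p G = ⊥) {z : G} {k : ℕ}
    (hz : z ^ p ^ k = 1) (hcen : ∀ g : G, g * z = z * g) : z = 1 := by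
  have h1 : (zpowers z).Normal := by
    refine ⟨fun x hx g => ?_⟩
    obtain ⟨n, rfl⟩ := hx
    have h2 : Commute g (z ^ n) := (show Commute g z from hcen g).zpow_right n
    simp only
    rw [h2.eq, mul_assoc, mul_inv_cancel, mul_one]
    exact ⟨n, rfl⟩
  have h2 : IsPGroup p (zpowers z) := by
    rw [IsPGroup.iff_card]
    obtain ⟨m, -, hm⟩ := (Nat.dvd_prime_pow (Fact.out : p.Prime)).1 (orderOf_dvd_of_pow_eq_one hz)
    exact ⟨m, by rw [Nat.card_zpowers, hm]⟩
  have h3 := Lib.Cores.le_pCore h1 h2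
  rw [hc, le_bot_iff, zpowers_eq_bot] at h3
  exact h3

/-- No involution of `H` is fixed by `N(H)`. -/
theorem no_fixed [Finite G] {H : Subgroup G} (h : EC 2 H) (hc' : pPrimeCore 2 G = ⊥)
    (hc : pCore 2 G = ⊥) {z : G} (hz : z ∈ H) (hz2 : z * z = 1) (hz1 : z ≠ 1) :
    ¬ ∀ n ∈ normalizer (H : Set G), n * z * n⁻¹ = z := by
  haveI : Fact (Nat.Prime 2) := ⟨Nat.prime_two⟩
  intro hfix
  obtain ⟨S, hHS⟩ := h.pg.exists_le_sylow
  obtain ⟨-, hsc⟩ := (S3021.result H h.pg h.cl).2 S hHS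
  have hzo : orderOf z = 2 := orderOf_eq_prime (by rw [pow_two]; exact hz2) hz1
  obtain ⟨N, hN, hNodd, hNc⟩ := S0215.result S z hzo (hHS hz) (fun g hg => by
    have h1 := hsc.2 z hz g hg
    obtain ⟨n, hn, hn2⟩ := h.fus hz h1
    rw [← hn2, hfix n hn])
  have hN1 : N = ⊥ := by
    have := Lib.Cores.le_pPrimeCore (p := 2) hN (Nat.coprime_two_right.2 hNodd)
    rwa [hc', le_bot_iff] at this
  refine hz1 (eq_one_of_central (p := 2) hc (k := 1) (by rw [pow_one, pow_two]; exact hz2) fun g => ?_)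
  have h1 := hNc g
  rw [hN1, mem_bot] at h1
  have h2 : z * g * z⁻¹ = g := mul_inv_eq_one.1 h1
  calc g * z = (z * g * z⁻¹) * z := by rw [h2]
    _ = z * g := by group

/-- Elements of odd order of `H θ`, `θ` a normalised subgroup of odd order. -/
theorem mem_of_coprime [Finite G] [Fact p.Prime] (hH : IsPGroup p H) {θ : Subgroup G}
    (hHθ : H ≤ normalizer (θ : Set G)) {x : G} (hx : x ∈ H ⊔ θ) (hxp : (orderOf x).Coprime p) :
    x ∈ θ := by
  set L : Subgroup G := H ⊔ θ with hL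
  have hHL : H ≤ L := le_sup_left
  have hθL : θ ≤ L := le_sup_right
  haveI : (θ.subgroupOf L).Normal :=
    normal_subgroupOf_of_le_normalizer (sup_le hHθ le_normalizer)
  have h1 := Lib.NormalHall.mem_of_orderOf_coprime_index (θ.subgroupOf L) (⟨x, hx⟩ : L)
    (index_coprime_aux (H := H.subgroupOf L) (hH.of_equiv (subgroupOfEquivOfLe hHL).symm) _
      (by rw [← subgroupOf_sup hHL hθL, ← hL, subgroupOf_self]) (by rw [Subgroup.orderOf_mk]; exact hxp))
  exact h1

/-- The core of the centraliser of `a` as a subgroup of `G`. -/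
abbrev th (p : ℕ) (a : G) : Subgroup G := centralizerPPrimeCore p a

theorem centralizer_eq [Finite G] [Fact p.Prime] (h : EC p H) (ih : IH p G) {a : G} (ha : a ∈ H)
    (hne : centralizer ({a} : Set G) ≠ ⊤) :
    centralizer ({a} : Set G) = (normalizer (H : Set G) ⊓ centralizer ({a} : Set G)) ⊔ th p a :=
  h.le_sup_of_lt ih _ (fun x hx => mem_centralizer_singleton_iff.2 (h.ab x hx a ha)) hne

/-- **Key lemma.** -/
theorem le_th [Finite G] [Fact p.Prime] (h : EC p H) (ih : IH p G) {a : G} (ha : a ∈ H)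
    (hne : centralizer ({a} : Set G) ≠ ⊤) {R : Subgroup G} (hRp : (Nat.card R).Coprime p)
    (hRa : R ≤ centralizer ({a} : Set G)) (hHR : H ≤ normalizer (R : Set G))
    (hfix : R ⊓ centralizer (H : Set G) ≤ th p a) : R ≤ th p a := by
  set C := centralizer ({a} : Set G) with hC
  have hHC : H ≤ C := fun x hx => mem_centralizer_singleton_iff.2 (h.ab x hx a ha)
  have hCθ : C ≤ normalizer (th p a : Set G) := Lib.LocalCore.le_normalizer_map_pPrimeCore p C
  have hC2 := h.centralizer_eq ih ha hne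
  have hCT : C ≤ normalizer ((H ⊔ th p a : Subgroup G) : Set G) := by
    rw [← hC] at hC2
    intro x hx
    have hx' := hx
    rw [hC2] at hx'
    have hxT : ∀ x ∈ (normalizer (H : Set G) ⊓ C : Subgroup G), x ∈ normalizer ((H ⊔ th p a : Subgroup G) : Set G) := by
      intro x hx
      obtain ⟨h1, h2⟩ := mem_inf.1 hx
      refine mem_normalizer_fintype (S := ((H ⊔ th p a : Subgroup G) : Set G)) fun y hy => ?_
      obtain ⟨b, hb, c, hc, rfl⟩ := mem_sup_norm (hHC.trans hCθ) hy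
      have h3 : x * (b * c) * x⁻¹ = (x * b * x⁻¹) * (x * c * x⁻¹) := by group
      rw [h3]
      exact mul_mem (mem_sup_left (mem_pow_conj h1 hb)) (mem_sup_right (mem_pow_conj (hCθ h2) hc))
    exact (sup_le hxT (le_sup_right.trans le_normalizer) : _ ≤ normalizer ((H ⊔ th p a : Subgroup G) : Set G)) hx'
  have hHN : H ≤ normalizer ((th p a ⊓ R : Subgroup G) : Set G) :=
    Lib.MinNormal.le_normalizer_inf (hHC.trans hCθ) hHR
  have hpN : ¬ p ∣ Nat.card ↥(th p a ⊓ R : Subgroup G) := by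
    have h1 : (Nat.card ↥(th p a ⊓ R : Subgroup G)).Coprime p :=
      Nat.Coprime.coprime_dvd_left (card_dvd_of_le inf_le_right) hRp
    exact prime_not_dvd_of_coprime h1
  intro x hx
  have hcent : ∀ b ∈ H, x⁻¹ * (b * x * b⁻¹) ∈ th p a ⊓ R := by
    intro b hb
    have h1 : x⁻¹ * (b * x * b⁻¹) ∈ R := mul_mem (inv_mem hx) (mem_pow_conj (hHR hb) hx)
    refine mem_inf.2 ⟨?_, h1⟩
    refine mem_of_coprime h.pg (hHC.trans hCθ) ?_
      (Nat.Coprime.coprime_dvd_left (Subgroup.orderOf_dvd_natCard R h1) hRp)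
    have h2 : x⁻¹ * b * x ∈ H ⊔ th p a := by
      have := mem_pow_conj (inv_mem (hCT (hRa hx))) (mem_sup_left hb : b ∈ H ⊔ th p a)
      simpa using this
    have h3 : x⁻¹ * (b * x * b⁻¹) = (x⁻¹ * b * x) * b⁻¹ := by group
    rw [h3]
    exact mul_mem h2 (mem_sup_left (inv_mem hb))
  obtain ⟨c, hc, hxc⟩ := Lib.CoprimeCommutator.exists_fixed_in_coset p H _ h.pg hHN hpN x hcent
  obtain ⟨h4, h5⟩ := mem_inf.1 hxc
  have hcR : c ∈ R := by
    have := mul_mem hx h5
    rwa [mul_inv_cancel_left] at this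
  have hcθ : c ∈ th p a := hfix (mem_inf.2 ⟨hcR, hc⟩)
  have h6 : x = c * (x⁻¹ * c)⁻¹ := by group
  rw [h6]
  exact mul_mem hcθ (inv_mem h4)

/-- `O_{p'}(C(H))` -/
abbrev DD (p : ℕ) (H : Subgroup G) : Subgroup G :=
  (pPrimeCore p ↥(centralizer (H : Set G))).map (centralizer (H : Set G)).subtype

theorem th_inf_le [Finite G] {a : G} (ha : a ∈ H) :
    th p a ⊓ centralizer (H : Set G) ≤ DD p H := by
  have hle : centralizer (H : Set G) ≤ centralizer ({a} : Set G) :=
    centralizer_le (Set.singleton_subset_iff.2 ha)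
  refine Lib.LocalCore.le_map_pPrimeCore inf_le_right ?_ ?_
  · exact Nat.Coprime.coprime_dvd_left (card_dvd_of_le inf_le_left)
      (Lib.LocalCore.card_map_pPrimeCore_coprime p _)
  · exact Lib.MinNormal.le_normalizer_inf
      (hle.trans (Lib.LocalCore.le_normalizer_map_pPrimeCore p _)) le_normalizer

theorem normalizer_le_normalizer_centralizer :
    normalizer (H : Set G) ≤ normalizer (centralizer (H : Set G) : Set G) := by
  intro n hn
  rw [mem_normalizer_iff]
  have key : ∀ n ∈ normalizer (H : Set G), ∀ x ∈ centralizer (H : Set G),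
      n * x * n⁻¹ ∈ centralizer (H : Set G) := by
    intro n hn x hx
    rw [mem_centralizer_iff] at hx ⊢
    intro y hy
    have h1 := hx _ (mem_pow_conj (inv_mem hn) hy)
    rw [inv_inv] at h1
    calc y * (n * x * n⁻¹) = n * ((n⁻¹ * y * n) * x) * n⁻¹ := by group
      _ = n * (x * (n⁻¹ * y * n)) * n⁻¹ := by rw [h1]
      _ = n * x * n⁻¹ * y := by group
  intro x
  refine ⟨key n hn x, fun hx => ?_⟩
  have h1 := key n⁻¹ (inv_mem hn) _ hx
  have h2 : n⁻¹ * (n * x * n⁻¹) * n⁻¹⁻¹ = x := by group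
  rwa [h2] at h1

theorem le_normalizer_DD (p : ℕ) (H : Subgroup G) :
    normalizer (H : Set G) ≤ normalizer (DD p H : Set G) :=
  normalizer_le_normalizer_centralizer.trans
    (OddOrderLocal.FittingHall.normalizer_le_normalizer_map _ _ (Lib.Cores.pPrimeCore_characteristic p))

theorem DD_le [Finite G] [Fact p.Prime] (h : EC p H) (ih : IH p G) {a : G} (ha : a ∈ H)
    (hne : centralizer ({a} : Set G) ≠ ⊤) : DD p H ≤ th p a := by
  set C := centralizer ({a} : Set G) with hC
  have hHC : H ≤ C := fun x hx => mem_centralizer_singleton_iff.2 (h.ab x hx a ha)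
  have hCθ : C ≤ normalizer (th p a : Set G) := Lib.LocalCore.le_normalizer_map_pPrimeCore p C
  have hθC : th p a ≤ C := map_subtype_le _
  have hle : centralizer (H : Set G) ≤ C := centralizer_le (Set.singleton_subset_iff.2 ha)
  have hDC : DD p H ≤ C := (map_subtype_le _).trans hle
  have hC2 := h.centralizer_eq ih ha hne
  rw [← hC] at hC2
  have hcop : (Nat.card ↥(th p a ⊔ DD p H : Subgroup G)).Coprime p := by
    refine Nat.Coprime.coprime_dvd_left
      (SignalizersComponents.CoprimeBasic.card_sup_dvd (hDC.trans hCθ)) ?_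
    exact Nat.Coprime.mul_left (Lib.LocalCore.card_map_pPrimeCore_coprime p _)
      (Lib.LocalCore.card_map_pPrimeCore_coprime p _)
  have hN : C ≤ normalizer ((th p a ⊔ DD p H : Subgroup G) : Set G) := by
    intro x hx
    have hx' := hx
    rw [hC2] at hx'
    refine (sup_le ?_ (le_sup_left.trans le_normalizer) :
      _ ≤ normalizer ((th p a ⊔ DD p H : Subgroup G) : Set G)) hx'
    intro x hx
    obtain ⟨h1, h2⟩ := mem_inf.1 hx
    refine mem_normalizer_fintype (S := ((th p a ⊔ DD p H : Subgroup G) : Set G)) fun y hy => ?_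
    rw [SetLike.mem_coe, sup_comm] at hy
    obtain ⟨b, hb, c, hc, rfl⟩ := mem_sup_norm (hDC.trans hCθ) hy
    have h3 : x * (b * c) * x⁻¹ = (x * b * x⁻¹) * (x * c * x⁻¹) := by group
    rw [h3]
    exact mul_mem (mem_sup_right (mem_pow_conj (le_normalizer_DD p H h1) hb))
      (mem_sup_left (mem_pow_conj (hCθ h2) hc))
  exact le_sup_right.trans (Lib.LocalCore.le_map_pPrimeCore (sup_le hθC hDC) hcop hN)

/-- Balance. -/
theorem balance [Finite G] [Fact p.Prime] (h : EC p H) (ih : IH p G) {a b : G} (ha : a ∈ H)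
    (hb : b ∈ H) (hne : centralizer ({b} : Set G) ≠ ⊤) :
    th p a ⊓ centralizer ({b} : Set G) ≤ th p b := by
  have hHa : H ≤ centralizer ({a} : Set G) := fun x hx =>
    mem_centralizer_singleton_iff.2 (h.ab x hx a ha)
  have hHb : H ≤ centralizer ({b} : Set G) := fun x hx =>
    mem_centralizer_singleton_iff.2 (h.ab x hx b hb)
  refine h.le_th ih hb hne ?_ inf_le_right ?_ ?_
  · exact Nat.Coprime.coprime_dvd_left (card_dvd_of_le inf_le_left)
      (Lib.LocalCore.card_map_pPrimeCore_coprime p _)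
  · exact Lib.MinNormal.le_normalizer_inf
      (hHa.trans (Lib.LocalCore.le_normalizer_map_pPrimeCore p _)) (hHb.trans le_normalizer)
  · exact (le_inf (inf_le_left.trans inf_le_left) inf_le_right).trans
      ((th_inf_le ha).trans (h.DD_le ih hb hne))

/-- `Ω₁(H)`, `p = 2`. -/
abbrev om2 {H : Subgroup G} (h : EC 2 H) : Subgroup G := om H h.ab

theorem normalizer_le_om {H : Subgroup G} (h : EC 2 H) :
    normalizer (H : Set G) ≤ normalizer (h.om2 : Set G) := by
  intro n hn
  rw [mem_normalizer_iff] at hn ⊢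
  intro x
  change (x ∈ H ∧ x * x = 1) ↔ (n * x * n⁻¹ ∈ H ∧ _)
  have h4 : n * x * n⁻¹ * (n * x * n⁻¹) = 1 ↔ x * x = 1 := by
    have : n * x * n⁻¹ * (n * x * n⁻¹) = n * (x * x) * n⁻¹ := by group
    rw [this, conj_eq_one_iff]
  rw [h4]
  exact and_congr_left' (hn x)

/-- The odd order theorem. -/
theorem oddSol (G : Type u) [Group G] [Finite G] : Intrinsic.Functor.OddSol G := fun _ hY =>
  S0205.result hY

/-- **Rank at least three.** -/
theorem card_om_lt [Finite G] {H : Subgroup G} (h : EC 2 H) (ih : IH 2 G) (hF : ¬ Fac 2 H)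
    (hc' : pPrimeCore 2 G = ⊥) (hc : pCore 2 G = ⊥) : Nat.card h.om2 < 8 := by
  haveI : Fact (Nat.Prime 2) := ⟨Nat.prime_two⟩
  by_contra hlt
  push Not at hlt
  set E := h.om2 with hE
  have hEc : ∀ a ∈ E, ∀ b ∈ E, a * b = b * a := fun a ha b hb => h.ab a ha.1 b hb.1
  have hE2 : ∀ a ∈ E, a * a = 1 := fun a ha => ha.2
  have hne : ∀ a ∈ E, a ≠ 1 → centralizer ({a} : Set G) ≠ ⊤ := by
    intro a ha ha1 htop
    refine ha1 (eq_one_of_central (p := 2) hc (k := 1) (by rw [pow_one, pow_two]; exact ha.2) fun g => ?_)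
    have h1 : g ∈ centralizer ({a} : Set G) := by rw [htop]; trivial
    exact mem_centralizer_singleton_iff.1 h1
  obtain ⟨hW, hWc⟩ := Intrinsic.Functor.closure_of_rank (oddSol G) hEc
    (fun a ha => by rw [pow_two]; exact ha.2) hlt
    (fun a ha ha1 b hb hb1 => h.balance ih ha.1 hb.1 (hne b hb hb1))
  set W := Intrinsic.Functor.W E with hWd
  have hQ : ∀ g : G, g ∈ normalizer (H : Set G) ⊔ W := by
    intro g
    obtain ⟨Q, hQ, hTQ, hHQ, hQN, k, hk, hkg⟩ := h.exists_core g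
    have hHQN : H ≤ normalizer (Q : Set G) := le_sup_left.trans hTQ
    have hQW : Q ≤ W := by
      refine Intrinsic.Functor.gen_le hEc hE2 (by omega) (Nat.coprime_two_right.1 hQ)
        ((show E ≤ H from fun x hx => hx.1).trans hHQN) ?_
      intro f hf hf1
      refine le_trans ?_ (Intrinsic.Functor.le_W hf hf1)
      refine h.le_th ih hf.1 (hne f hf hf1) ?_ inf_le_right ?_ ?_
      · exact Nat.Coprime.coprime_dvd_left (card_dvd_of_le inf_le_left) hQ
      · exact Lib.MinNormal.le_normalizer_inf hHQN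
          ((show H ≤ centralizer ({f} : Set G) from fun x hx =>
            mem_centralizer_singleton_iff.2 (h.ab x hx f hf.1)).trans le_normalizer)
      · have h1 : Q ⊓ centralizer ({f} : Set G) ⊓ centralizer (H : Set G) ≤ Q ⊓ normalizer (H : Set G) :=
          le_inf (inf_le_left.trans inf_le_left)
            (inf_le_right.trans (centralizer_le_normalizer _))
        rw [hQN] at h1
        exact h1.trans bot_le
    have h1 : g = k * (k⁻¹ * g) := by group
    rw [h1]
    exact mul_mem (mem_sup_right (hQW hk)) (mem_sup_left hkg)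
  have hNW : normalizer (W : Set G) = ⊤ := by
    rw [eq_top_iff]
    intro g _
    exact (sup_le (h.normalizer_le_om.trans (Intrinsic.Functor.normalizer_le E)) le_normalizer :
      normalizer (H : Set G) ⊔ W ≤ normalizer (W : Set G)) (hQ g)
  have hW1 : W = ⊥ := by
    have := Lib.Cores.le_pPrimeCore (p := 2) (normalizer_eq_top_iff.1 hNW) (Nat.coprime_two_right.2 hW)
    rwa [hc', le_bot_iff] at this
  apply hF
  unfold Fac
  rw [eq_top_iff]
  intro g _
  have := hQ g
  rw [hW1, sup_bot_eq] at this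
  exact mem_sup_left this

/-- **The 2-rank is two.** -/
theorem card_om_eq [Finite G] {H : Subgroup G} (h : EC 2 H) (ih : IH 2 G) (hF : ¬ Fac 2 H)
    (hc' : pPrimeCore 2 G = ⊥) (hc : pCore 2 G = ⊥) : Nat.card h.om2 = 4 := by
  haveI : Fact (Nat.Prime 2) := ⟨Nat.prime_two⟩
  have h8 := h.card_om_lt ih hF hc' hc
  set E := h.om2 with hE
  have hEp : IsPGroup 2 E := h.pg.to_le fun x hx => hx.1
  have hH1 : H ≠ ⊥ := by
    rintro rfl
    exact hF (fac_of_normal inferInstance)
  have hE1 : Nat.card E ≠ 1 := by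
    intro h1
    have h2 : ¬ 2 ∣ Nat.card H := by
      intro hd
      obtain ⟨x, hx⟩ := exists_prime_orderOf_dvd_card' 2 hd
      have h3 : (x : G) ∈ E := ⟨x.2, by
        rw [← pow_two, ← Subgroup.coe_pow, ← hx, pow_orderOf_eq_one, Subgroup.coe_one]⟩
      rw [Subgroup.card_eq_one.1 h1, mem_bot] at h3
      have h4 : x = 1 := Subtype.ext h3
      rw [h4, orderOf_one] at hx
      omega
    obtain ⟨n, hn⟩ := h.pg.exists_card_eq
    rcases Nat.eq_zero_or_pos n with rfl | hn0
    · rw [pow_zero] at hn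
      exact hH1 (Subgroup.card_eq_one.1 hn)
    · exact h2 (hn ▸ dvd_pow_self 2 hn0.ne')
  have hE2 : Nat.card E ≠ 2 := by
    intro h2
    obtain ⟨z, hz, hz1, hzu⟩ := exists_unique_of_card_two h2
    refine h.no_fixed hc' hc hz.1 hz.2 hz1 fun n hn => ?_
    refine hzu _ (mem_pow_conj (h.normalizer_le_om hn) hz) ?_
    intro h3
    exact hz1 (conj_eq_one_iff.1 h3)
  obtain ⟨n, hn⟩ := hEp.exists_card_eq
  rw [hn] at h8 hE1 hE2 ⊢
  have h3 : n < 3 := (Nat.pow_lt_pow_iff_right (by norm_num : 1 < 2)).1 (by simpa using h8)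
  interval_cases n
  · simp at hE1
  · simp at hE2
  · norm_num

/-- `Ω₁(H)` lies in the component. -/
theorem om_le [Finite G] {H : Subgroup G} (h : EC 2 H) (hc' : pPrimeCore 2 G = ⊥)
    (hc : pCore 2 G = ⊥) (h4 : Nat.card h.om2 = 4) (A : Subgroup G) [A.Normal] (htop : H ⊔ A = ⊤) :
    h.om2 ≤ A := by
  haveI : Fact (Nat.Prime 2) := ⟨Nat.prime_two⟩
  set E := h.om2 with hE
  -- commutators lie in `A`
  have hcomm : ∀ g x : G, g * x * g⁻¹ * x⁻¹ ∈ A := by
    intro g x
    have hg : g ∈ H ⊔ A := by rw [htop]; trivial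
    have hx : x ∈ H ⊔ A := by rw [htop]; trivial
    obtain ⟨a, ha, b, hb, rfl⟩ := mem_sup_of_normal_right.1 hg
    obtain ⟨c, hc, d, hd, rfl⟩ := mem_sup_of_normal_right.1 hx
    rw [← QuotientGroup.eq_one_iff]
    have hb' : (QuotientGroup.mk b : G ⧸ A) = 1 := (QuotientGroup.eq_one_iff b).2 hb
    have hd' : (QuotientGroup.mk d : G ⧸ A) = 1 := (QuotientGroup.eq_one_iff d).2 hd
    simp only [QuotientGroup.mk_mul, QuotientGroup.mk_inv, hb', hd', mul_one]
    rw [← QuotientGroup.mk_mul, ← QuotientGroup.mk_inv, ← QuotientGroup.mk_mul,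
      ← QuotientGroup.mk_inv, ← QuotientGroup.mk_mul, h.ab a ha c hc]
    have : c * a * a⁻¹ * c⁻¹ = 1 := by group
    rw [this]; rfl
  have hkey : ∀ z ∈ E, z ≠ 1 → ∃ n ∈ normalizer (H : Set G), n * z * n⁻¹ ≠ z := by
    intro z hz hz1
    have := h.no_fixed hc' hc hz.1 hz.2 hz1
    push Not at this
    exact this
  obtain ⟨z, hzE, hz1, -⟩ := Four.exists_ne_of_card (show 2 < Nat.card E by omega) 1
  obtain ⟨n, hn, hnz⟩ := hkey z hzE hz1
  have hnE := h.normalizer_le_om hn
  set u := n * z * n⁻¹ * z⁻¹ with hu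
  have huE : u ∈ E := mul_mem (mem_pow_conj hnE hzE) (inv_mem hzE)
  have huA : u ∈ A := hcomm n z
  have hu1 : u ≠ 1 := fun h1 => hnz (mul_inv_eq_one.1 h1)
  obtain ⟨m, hm, hmu⟩ := hkey u huE hu1
  set v := m * u * m⁻¹ with hv
  have hvE : v ∈ E := mem_pow_conj (h.normalizer_le_om hm) huE
  have hvA : v ∈ A := Normal.conj_mem inferInstance u huA m
  have hv1 : v ≠ 1 := fun h1 => hu1 (conj_eq_one_iff.1 h1)
  intro x hx
  by_cases hx1 : x = 1
  · rw [hx1]; exact one_mem _
  by_cases hxu : x = u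
  · rw [hxu]; exact huA
  have hvi : v⁻¹ = v := inv_eq_of_mul_eq_one_left hvE.2
  rcases Four.four_cases h4 huE huE.2 hu1 hvE hx hv1 hmu hx1 hxu with h5 | h5
  · rw [h5]; exact inv_mem hvA
  · rw [h5]; exact mul_mem (inv_mem hvA) huA

/-- There is no minimal counterexample. -/
theorem false_of_step [Finite G] {H : Subgroup G} (h : EC 2 H) (ih : IH 2 G) (hF : ¬ Fac 2 H) :
    False := by
  haveI : Fact (Nat.Prime 2) := ⟨Nat.prime_two⟩
  obtain ⟨hc', hc, A, hA, hsimple, hna, -, htop⟩ := h.step ih hF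
  haveI := hA
  haveI := hsimple
  have h4 := h.card_om_eq ih hF hc' hc
  have hEA := h.om_le hc' hc h4 A htop
  set E := h.om2 with hE
  obtain ⟨S, hHS⟩ := h.pg.exists_le_sylow
  obtain ⟨-, hsc⟩ := (S3021.result H h.pg h.cl).2 S hHS
  obtain ⟨T, hT⟩ := H571.SylowNumber.exists_sylow_inf S A
  have hTS : ∀ x : A, x ∈ (T : Subgroup A) ↔ (x : G) ∈ (S : Subgroup G) := by
    intro x; rw [hT, mem_subgroupOf]
  have hnaA : ∃ a b : A, a * b ≠ b * a := by
    push Not at hna
    obtain ⟨x, hx, y, hy, hxy⟩ := hna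
    exact ⟨⟨x, hx⟩, ⟨y, hy⟩, fun h1 => hxy (congrArg Subtype.val h1)⟩
  have hEcard : Nat.card (E.subgroupOf A) = 4 := by
    rw [Nat.card_congr (subgroupOfEquivOfLe hEA).toEquiv]; exact h4
  refine Four.false_of_star hnaA (E := E.subgroupOf A) ?_ hEcard ?_ T ?_
  · intro g
    obtain ⟨Q, hQ, hTQ, hHQ, hQN, k, hk, hkg⟩ := h.exists_core (g : G)
    have hHQN : H ≤ normalizer (Q : Set G) := le_sup_left.trans hTQ
    have hQA : Q ≤ A := by
      intro x hx
      exact Lib.NormalHall.mem_of_orderOf_coprime_index A x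
        (index_coprime_aux h.pg A htop
          (Nat.Coprime.coprime_dvd_left (Subgroup.orderOf_dvd_natCard Q hx) hQ))
    have hEQ : E ≤ normalizer (Q : Set G) := fun x hx => hHQN hx.1
    refine ⟨Q.subgroupOf A, ?_, ?_, ⟨k, hQA hk⟩, hk, ?_⟩
    · rw [Nat.card_congr (subgroupOfEquivOfLe hQA).toEquiv]
      exact Nat.coprime_two_right.1 hQ
    · rw [← subgroupOf_normalizer_eq hQA]
      exact fun x hx => hEQ hx
    · rw [← subgroupOf_normalizer_eq hEA]
      exact h.normalizer_le_om hkg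
  · intro x hx
    have h1 : (x : G) ∈ E := hx
    exact Subtype.ext h1.2
  · refine ⟨fun x hx => (hTS x).2 (hHS (show (x : G) ∈ E from hx).1), ?_⟩
    intro x hx g hg
    have h1 : (x : G) ∈ E := hx
    have h2 := hsc.2 (x : G) h1.1 (g : G) ((hTS _).1 hg)
    refine ⟨h2, ?_⟩
    have h3 : (g : G) * x * (g : G)⁻¹ * ((g : G) * x * (g : G)⁻¹) = g * (x * x) * (g : G)⁻¹ := by group
    change (g : G) * x * (g : G)⁻¹ * ((g : G) * x * (g : G)⁻¹) = 1
    rw [h3, h1.2]; group

/-- **The factorization for `p = 2`.** -/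
theorem fac_two_aux : ∀ (n : ℕ) (G : Type u) [Group G] [Finite G] (H : Subgroup G), EC 2 H →
    Nat.card G ≤ n → Fac 2 H := by
  haveI : Fact (Nat.Prime 2) := ⟨Nat.prime_two⟩
  intro n
  induction n with
  | zero =>
    intro G _ _ H _ hn
    have : 0 < Nat.card G := Nat.card_pos
    omega
  | succ n ihn =>
    intro G _ _ H h hn
    by_contra hF
    refine h.false_of_step ?_ hF
    intro G' _ _ H' h' hlt
    exact ihn G' H' h' (by omega)

theorem fac_two [Finite G] {H : Subgroup G} (h : EC 2 H) : Fac 2 H :=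
  fac_two_aux (Nat.card G) G H h le_rfl

end EC

end Cfsg.Agent.H266
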