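import Cfsg.Agent.H266.Glau
import Cfsg.Agent.H266.TwoSide
import Cfsg.Agent.S0943
import Cfsg.Agent.S0026
import Cfsg.Agent.Characters.Values

/-!
# Extremely closed abelian `p`-subgroups, `p` odd: the kernels of the invariant characters (helper266)

`G = R H`, `R` a normal `p'`-subgroup, `H` an extremely closed abelian `p`-subgroup, `p` odd.

* `EC.val_eq` : `X (u w) = X w` for `u` in an `H`-invariant `D ≤ C_R(w)` with `C_D(H) = 1`;
* `EC.mul_eq` : `X x * X y = X 1 * X (x y)` for `x, y ∈ H` with `x y` not centralising `R`;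
* `EC.ker_aux` : every `H`-invariant irreducible character of `R` has `[R, H]` in its kernel.
-/

set_option autoImplicit false
set_option linter.style.haveILetI false

namespace Cfsg.Agent.H266

open Subgroup Cfsg Cfsg.Agent.Characters Cfsg.Agent.Characters.Core
open scoped ComplexConjugate commutatorElement

universe u

/-- The induction hypothesis. -/
def KerAt (p : ℕ) (G : Type u) [Group G] : Prop :=
  ∀ (G' : Type u) [Group G'] [Finite G'] (H' R' : Subgroup G'), EC p H' → R'.Normal →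
    (Nat.card R').Coprime p → R' ⊔ H' = ⊤ → Nat.card G' < Nat.card G → ∀ χ : R' → ℂ, IsIrrCharacter R' χ →
    (∀ h ∈ H', ∀ r r' : R', (r' : G') = h * r * h⁻¹ → χ r' = χ r) →
    ∀ u : R', (u : G') ∈ ⁅R', H'⁆ → χ u = χ 1

namespace EC

variable {G : Type u} [Group G] {p : ℕ} {H R : Subgroup G}

theorem coprime_card [Finite G] [Fact p.Prime] (h : EC p H) {n : ℕ} (hn : n.Coprime p) :
    n.Coprime (Nat.card H) := by
  obtain ⟨k, hk⟩ := h.pg.exists_card_eq
  rw [hk]
  exact hn.pow_right k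

theorem coprime_orderOf [Finite G] [Fact p.Prime] (h : EC p H) {n : ℕ} (hn : n.Coprime p) {w : G}
    (hw : w ∈ H) : n.Coprime (orderOf w) := by
  refine Nat.Coprime.coprime_dvd_right ?_ (h.coprime_card hn)
  have := orderOf_dvd_natCard (⟨w, hw⟩ : H)
  rwa [orderOf_mk] at this

/-- The normaliser of `H` centralises `H`. -/
theorem conj_eq_of_normalizer [Finite G] [Fact p.Prime] (h : EC p H) [hRn : R.Normal]
    (hR : (Nat.card R).Coprime p) (htop : R ⊔ H = ⊤) {n : G} (hn : n ∈ normalizer (H : Set G)) {y : G}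
    (hy : y ∈ H) : n * y * n⁻¹ = y := by
  have h1 : n ∈ R ⊔ H := by rw [htop]; trivial
  rw [mem_sup_of_normal_left] at h1
  obtain ⟨r, hr, k, hk, rfl⟩ := h1
  have hrn : r ∈ normalizer (H : Set G) := by
    have := mul_mem hn (inv_mem (le_normalizer hk))
    rwa [mul_inv_cancel_right] at this
  have h2 : r * y * r⁻¹ * y⁻¹ ∈ H := mul_mem (mem_pow_conj hrn hy) (inv_mem hy)
  have h3 : r * y * r⁻¹ * y⁻¹ ∈ R := by
    have e : r * y * r⁻¹ * y⁻¹ = r * (y * r⁻¹ * y⁻¹) := by group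
    rw [e]
    exact mul_mem hr (hRn.conj_mem _ (inv_mem hr) y)
  have h4 : r * y * r⁻¹ * y⁻¹ ∈ H ⊓ R := mem_inf.2 ⟨h2, h3⟩
  rw [inf_eq_bot h.pg hR, mem_bot] at h4
  have h5 : r * y * r⁻¹ = y := mul_inv_eq_one.1 h4
  calc r * k * y * (r * k)⁻¹ = r * (k * y * k⁻¹) * r⁻¹ := by group
    _ = r * y * r⁻¹ := by rw [h.ab k hk y hy, mul_inv_cancel_right]
    _ = y := h5

theorem val_eq [Finite G] [Fact p.Prime] (h : EC p H) (ih : KerAt p G) [hRn : R.Normal]
    (hR : (Nat.card R).Coprime p) (htop : R ⊔ H = ⊤) {X : G → ℂ} (hX : IsCharacter G X)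
    (hres : IsIrrCharacter R (fun r : R => X r)) {w : G} (hw : w ∈ H)
    (hne : centralizer ({w} : Set G) ≠ ⊤) {D : Subgroup G} (hDR : D ≤ R)
    (hHD : H ≤ normalizer (D : Set G)) (hDw : D ≤ centralizer ({w} : Set G))
    (hfix : D ⊓ centralizer (H : Set G) = ⊥) {u : G} (hu : u ∈ D) : X (u * w) = X w := by
  have hv := Glau.values R w (h.coprime_orderOf hR hw) hX hres
  have hHL : H ≤ centralizer ({w} : Set G) := fun x hx => mem_centralizer_singleton_iff.2 (h.ab x hx w hw)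
  obtain ⟨L, hL⟩ : ∃ L : Subgroup G, centralizer ({w} : Set G) = L := ⟨_, rfl⟩
  rw [hL] at hv hne hDw hHL
  obtain ⟨κ, hκ, β, hβ, hval⟩ := hv
  set H' := H.subgroupOf L with hH'
  set R' := R.subgroupOf L with hR'
  have hcard' : (Nat.card R').Coprime p := by
    refine Nat.Coprime.coprime_dvd_left ?_ hR
    rw [hR', ← Subgroup.card_map_of_injective (f := L.subtype) L.subtype_injective]
    exact card_dvd_of_le (by rw [subgroupOf_map_subtype]; exact inf_le_left)
  have htop' : R' ⊔ H' = ⊤ := by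
    rw [eq_top_iff]
    rintro ⟨l, hl⟩ -
    have h1 : l ∈ R ⊔ H := by rw [htop]; trivial
    rw [mem_sup_of_normal_left] at h1
    obtain ⟨r, hr, k, hk, rfl⟩ := h1
    have hrL : r ∈ L := by
      have := mul_mem hl (inv_mem (hHL hk))
      rwa [mul_inv_cancel_right] at this
    exact mul_mem ((le_sup_left : R' ≤ R' ⊔ H') (show (⟨r, hrL⟩ : L) ∈ R' from mem_subgroupOf.2 hr))
      ((le_sup_right : H' ≤ R' ⊔ H') (show (⟨k, hHL hk⟩ : L) ∈ H' from mem_subgroupOf.2 hk))
  have hlt : Nat.card L < Nat.card G := by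
    rcases lt_or_eq_of_le (Nat.card_le_card_of_injective _ L.subtype_injective) with h1 | h1
    · exact h1
    · exact absurd (L.eq_top_of_card_eq h1) hne
  have hmem : ∀ x : R', ((x : L) : G) ∈ R ⊓ L := fun x => mem_inf.2 ⟨mem_subgroupOf.1 x.2, (x : L).2⟩
  let f : R' →* ↥(R ⊓ L) :=
    { toFun := fun x => ⟨((x : L) : G), hmem x⟩
      map_one' := rfl
      map_mul' := fun _ _ => rfl }
  have hf : Function.Surjective f := by
    rintro ⟨x, hx⟩
    exact ⟨⟨⟨x, (mem_inf.1 hx).2⟩, mem_subgroupOf.2 (mem_inf.1 hx).1⟩, rfl⟩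
  have hcf := isCharacter_isClassFunction hX
  have hinv : ∀ k ∈ H', ∀ r r' : R', (r' : L) = k * r * k⁻¹ → (β ∘ f) r' = (β ∘ f) r := by
    intro k hk r r' hr
    have hk' : (k : G) ∈ H := mem_subgroupOf.1 hk
    have h1 := hval (f r)
    have h2 := hval (f r')
    have h3 : (f r' : G) * w = k * ((f r : G) * w) * (k : G)⁻¹ := by
      have e1 : (f r' : G) = (k : G) * (f r : G) * (k : G)⁻¹ := congrArg Subtype.val hr
      rw [e1]
      have e2 : (k : G)⁻¹ * w = w * (k : G)⁻¹ := h.ab _ (inv_mem hk') _ hw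
      rw [mul_assoc _ (k : G)⁻¹ w, e2]
      group
    rw [h3, hcf, h1] at h2
    exact (mul_left_cancel₀ hκ h2).symm
  have hDD : ⁅D, H⁆ = D := by
    have h1 := S0026.result H D hHD
      ((h.coprime_card (Nat.Coprime.coprime_dvd_left (card_dvd_of_le hDR) hR)).symm)
      (Or.inl (Group.isSolvable_of_comm fun a b => Subtype.ext (h.ab a a.2 b b.2)))
    rwa [hfix, sup_bot_eq] at h1
  have hu' : (⟨u, hDw hu⟩ : L) ∈ ⁅R', H'⁆ := by
    have h1 : D ≤ (⁅R', H'⁆).map L.subtype := by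
      rw [map_commutator, hR', hH', subgroupOf_map_subtype, subgroupOf_map_subtype, inf_eq_left.2 hHL]
      calc D = ⁅D, H⁆ := hDD.symm
        _ ≤ _ := commutator_mono (le_inf hDR hDw) le_rfl
    obtain ⟨v, hv, hv2⟩ := h1 hu
    have : v = ⟨u, hDw hu⟩ := Subtype.ext hv2
    rwa [← this]
  have h1 := ih L H' R' (h.subgroupOf hHL) inferInstance hcard' htop' hlt (β ∘ f) (isIrr_comp f hf hβ) hinv
    ⟨⟨u, hDw hu⟩, mem_subgroupOf.2 (hDR hu)⟩ hu'
  have h2 := hval (f ⟨⟨u, hDw hu⟩, mem_subgroupOf.2 (hDR hu)⟩)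
  have h3 := hval (f 1)
  change X (u * w) = _ at h2
  change X (1 * w) = _ at h3
  rw [one_mul] at h3
  rw [h2, h3]
  exact congrArg _ h1

theorem apply_ne_zero [Finite G] [Fact p.Prime] (h : EC p H) [hRn : R.Normal]
    (hR : (Nat.card R).Coprime p) {X : G → ℂ} (hX : IsCharacter G X)
    (hres : IsIrrCharacter R (fun r : R => X r)) {w : G} (hw : w ∈ H) : X w ≠ 0 := by
  obtain ⟨κ, hκ, β, hβ, hval⟩ := Glau.values R w (h.coprime_orderOf hR hw) hX hres
  have h1 := hval 1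
  rw [OneMemClass.coe_one, one_mul] at h1
  rw [h1]
  exact mul_ne_zero hκ (isIrr_apply_one_ne_zero hβ)

theorem mul_eq [Finite G] [Fact p.Prime] (h : EC p H) (ih : KerAt p G) [hRn : R.Normal]
    (hR : (Nat.card R).Coprime p) (htop : R ⊔ H = ⊤) {X : G → ℂ} (hX : IsIrrCharacter G X)
    (hres : IsIrrCharacter R (fun r : R => X r)) {x y : G} (hx : x ∈ H) (hy : y ∈ H)
    (hne : centralizer ({x * y} : Set G) ≠ ⊤) : X x * X y = X 1 * X (x * y) := by
  have hcf := isIrr_isClassFunction hX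
  refine S0943.result ⟨X, hX⟩ x y ?_
  intro x' y' hx' hy'
  obtain ⟨a, rfl⟩ := isConj_iff.1 hx'
  obtain ⟨b, rfl⟩ := isConj_iff.1 hy'
  change X _ = X _
  set g : G := a⁻¹ * b with hg
  have h4 : a * x * a⁻¹ * (b * y * b⁻¹) = a * (x * (g * y * g⁻¹)) * a⁻¹ := by rw [hg]; group
  rw [h4, hcf]
  obtain ⟨Q, hQ, hTQ, hHQ, hQN, k, hk, hkg⟩ := h.exists_core g
  have hHQn : H ≤ normalizer (Q : Set G) := le_sup_left.trans hTQ
  have h5 := h.conj_eq_of_normalizer hR htop hkg hy
  have h6 : g * y * g⁻¹ = k * y * k⁻¹ := by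
    calc g * y * g⁻¹ = k * (k⁻¹ * g * y * (k⁻¹ * g)⁻¹) * k⁻¹ := by group
      _ = k * y * k⁻¹ := by rw [h5]
  set w : G := x * y with hw
  have hwH : w ∈ H := mul_mem hx hy
  -- `x (k y k⁻¹) = q w`
  have h7 : ∃ q ∈ Q, x * (g * y * g⁻¹) = q * w := by
    refine ⟨(x * k * x⁻¹) * (w * k * w⁻¹)⁻¹, mul_mem (mem_pow_conj (hHQn hx) hk)
      (inv_mem (mem_pow_conj (hHQn hwH) hk)), ?_⟩
    rw [h6, hw]
    group
  obtain ⟨q, hq, hqw⟩ := h7
  obtain ⟨z, -, c, hc, hzc⟩ := H594.CosetSum.exists_conj_mul (G := Q) (S := zpowers w) (by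
      rintro _ ⟨j, rfl⟩ t ht
      exact mem_pow_conj (zpow_mem (hHQn hwH) j) ht) (by
      rw [Nat.card_zpowers]
      exact h.coprime_orderOf hQ hwH) (s := w) rfl hq
  rw [hqw, hzc, hcf]
  have hQR : Q ≤ R := by
    intro t ht
    have h8 : t ∈ H ⊔ R := by rw [sup_comm, htop]; trivial
    refine mem_of_coprime h.pg (by rw [normalizer_eq_top_iff.2 hRn]; exact le_top) h8 ?_
    refine Nat.Coprime.coprime_dvd_left ?_ hQ
    have := orderOf_dvd_natCard (⟨t, ht⟩ : Q)
    rwa [orderOf_mk] at this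
  have hHw : H ≤ centralizer ({w} : Set G) := fun t ht => mem_centralizer_singleton_iff.2 (h.ab t ht w hwH)
  refine h.val_eq ih hR htop (isIrr_isCharacter hX) hres hwH hne
    (D := Q ⊓ centralizer ({w} : Set G)) (inf_le_left.trans hQR)
    (Lib.MinNormal.le_normalizer_inf hHQn (hHw.trans le_normalizer)) inf_le_right ?_ (mem_inf.2 ⟨(mem_inf.1 hc).1, ?_⟩)
  · rw [← le_bot_iff, ← hQN]
    exact le_inf (inf_le_left.trans inf_le_left) (inf_le_right.trans (centralizer_le_normalizer _))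
  · exact mem_centralizer_singleton_iff.2 (mem_centralizer_iff.1 (mem_inf.1 hc).2 w (mem_zpowers w)).symm

theorem norm_eq [Finite G] [Fact p.Prime] (hp : p ≠ 2) (h : EC p H) (ih : KerAt p G) [hRn : R.Normal]
    (hR : (Nat.card R).Coprime p) (htop : R ⊔ H = ⊤) {X : G → ℂ} (hX : IsIrrCharacter G X)
    (hres : IsIrrCharacter R (fun r : R => X r)) {d : ℕ} (hd : X 1 = d) {x : G} (hx : x ∈ H)
    (hne : centralizer ({x} : Set G) ≠ ⊤) : ‖X x‖ = d := by
  have hodd : Odd (orderOf x) := by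
    obtain ⟨k, hk⟩ := h.pg ⟨x, hx⟩
    have h1 : x ^ p ^ k = 1 := congrArg Subtype.val hk
    exact Odd.of_dvd_nat (((Fact.out : p.Prime).odd_of_ne_two hp).pow) (orderOf_dvd_of_pow_eq_one h1)
  have hne2 : centralizer ({x * x} : Set G) ≠ ⊤ := by
    intro htop2
    apply hne
    rw [eq_top_iff]
    intro g _
    have hg : g ∈ centralizer ({x * x} : Set G) := by rw [htop2]; trivial
    have hg2 : Commute g (x * x) := mem_centralizer_singleton_iff.1 hg
    obtain ⟨m, hm⟩ := hodd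
    have h1 : x = (x * x) ^ (m + 1) := by
      rw [← pow_two, ← pow_mul]
      have : 2 * (m + 1) = orderOf x + 1 := by omega
      rw [this, pow_succ, pow_orderOf_eq_one, one_mul]
    have h2 : Commute g x := by
      rw [h1]
      exact hg2.pow_right _
    exact mem_centralizer_singleton_iff.2 h2.eq
  have e1 := h.mul_eq ih hR htop hX hres hx hx hne2
  have e2 := h.mul_eq ih hR htop hX hres (inv_mem hx) (mul_mem hx hx) (by rwa [inv_mul_cancel_left])
  rw [inv_mul_cancel_left] at e2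
  have hy0 := h.apply_ne_zero hR (isIrr_isCharacter hX) hres hx
  rw [isCharacter_apply_inv (isIrr_isCharacter hX)] at e2
  have e3 : conj (X x) * X x = (d : ℂ) * d := by
    rw [hd] at e1 e2
    have h1 : (conj (X x) * X x - (d : ℂ) * d) * X x = 0 := by
      linear_combination (conj (X x)) * e1 + (d : ℂ) * e2
    rcases mul_eq_zero.1 h1 with h2 | h2
    · exact sub_eq_zero.1 h2
    · exact absurd h2 hy0
  rw [mul_comm, Complex.mul_conj'] at e3
  have e4 : ‖X x‖ ^ 2 = (d : ℝ) ^ 2 := by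
    rw [pow_two (d : ℝ)]
    exact_mod_cast e3
  exact (pow_left_inj₀ (norm_nonneg _) (Nat.cast_nonneg d) two_ne_zero).1 e4

/-- The inductive step. -/
theorem ker_step [Finite G] [Fact p.Prime] (hp : p ≠ 2) (h : EC p H) (ih : KerAt p G) (hRn : R.Normal)
    (hR : (Nat.card R).Coprime p) (htop : R ⊔ H = ⊤) (χ : R → ℂ) (hχ : IsIrrCharacter R χ)
    (hinv : ∀ h ∈ H, ∀ r r' : R, (r' : G) = h * r * h⁻¹ → χ r' = χ r) (u : R) (hu : (u : G) ∈ ⁅R, H⁆) :
    χ u = χ 1 := by
  classical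
  letI : Fintype G := Fintype.ofFinite G
  have hcopH := h.coprime_card hR
  obtain ⟨χh, hext, -⟩ := H594.Cyclic.exists_canonical R H (fun s _ g hg => hRn.conj_mem g hg s) hcopH
    (H594.Cyclic.index_eq hcopH htop) htop ⟨χ, hχ⟩ hinv
  have hres : IsIrrCharacter R (fun r : R => (χh : G → ℂ) r) := by
    have : (fun r : R => (χh : G → ℂ) r) = χ := funext fun r => hext r
    rw [this]
    exact hχ
  obtain ⟨d, -, hd⟩ := isIrr_apply_one χh.2
  have hnorm := fun x hx hne => h.norm_eq hp ih hR htop χh.2 hres hd (x := x) hx hne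
  have hu1 := hext u
  have h11 := hext 1
  change (χh : G → ℂ) u = χ u at hu1
  change (χh : G → ℂ) 1 = χ 1 at h11
  rw [← hu1, ← h11]
  obtain ⟨χh, n, ρ, hρ, rfl⟩ := χh
  simp only at hnorm hd ⊢
  have h2 : ρ.character 1 = (Module.finrank ℂ (Fin n → ℂ) : ℂ) := by
    rw [Representation.char_one]
  have h3 : (d : ℝ) = (Module.finrank ℂ (Fin n → ℂ) : ℝ) := by
    have : (d : ℂ) = (Module.finrank ℂ (Fin n → ℂ) : ℂ) := by rw [← hd, h2]
    exact_mod_cast this
  have hker : ⁅R, H⁆ ≤ ρ.ker := by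
    rw [commutator_le]
    intro r hr x hx
    rw [MonoidHom.mem_ker]
    by_cases hne : centralizer ({x} : Set G) = ⊤
    · have hr' : r ∈ centralizer ({x} : Set G) := by rw [hne]; trivial
      have h4 : r * x = x * r := mem_centralizer_singleton_iff.1 hr'
      rw [commutatorElement_def, h4]
      simp
    · have h1 := hnorm x hx hne
      rw [h3] at h1
      obtain ⟨z, hz⟩ := (Values.norm_character_eq_iff ρ x).1 h1
      have h4 : r * x = ⁅r, x⁆ * (x * r) := by rw [commutatorElement_def]; group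
      have h5 : ρ ⁅r, x⁆ * ρ (x * r) = ρ (x * r) := by
        rw [← map_mul, ← h4, map_mul, map_mul, hz]
        ext v
        simp
      have h6 : ρ (x * r) * ρ (x * r)⁻¹ = 1 := by rw [← map_mul, mul_inv_cancel, map_one]
      calc ρ ⁅r, x⁆ = ρ ⁅r, x⁆ * (ρ (x * r) * ρ (x * r)⁻¹) := by rw [h6, mul_one]
        _ = 1 := by rw [← mul_assoc, h5, h6]
  have h7 : ρ (u : G) = 1 := MonoidHom.mem_ker.1 (hker hu)
  have h8 : ρ (u : G) = ρ 1 := by rw [h7, map_one ρ]
  rw [Representation.character, Representation.character, h8]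

theorem ker_aux [Fact p.Prime] (hp : p ≠ 2) : ∀ (n : ℕ) (G : Type u) [Group G] [Finite G] (H R : Subgroup G),
    EC p H → R.Normal → (Nat.card R).Coprime p → R ⊔ H = ⊤ → Nat.card G ≤ n → ∀ χ : R → ℂ,
    IsIrrCharacter R χ → (∀ h ∈ H, ∀ r r' : R, (r' : G) = h * r * h⁻¹ → χ r' = χ r) →
    ∀ u : R, (u : G) ∈ ⁅R, H⁆ → χ u = χ 1 := by
  intro n
  induction n with
  | zero =>
    intro G _ _ H R _ _ _ _ hn
    have : 0 < Nat.card G := Nat.card_pos
    omega
  | succ n ihn =>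
    intro G _ _ H R h hRn hR htop hn χ hχ hinv u hu
    refine h.ker_step hp ?_ hRn hR htop χ hχ hinv u hu
    intro G' _ _ H' R' h' hRn' hR' htop' hlt
    exact ihn G' H' R' h' hRn' hR' htop' (by omega)

end EC

end Cfsg.Agent.H266
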