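import Cfsg.Agent.H266.Fix2
import Cfsg.Agent.S0205
import Cfsg.Agent.S4319

/-!
# Extremely closed abelian `p`-subgroups lie in the solvable radical (helper266)

`EC.solvable_normal` : `H ≤ H [R, H]`, a solvable normal subgroup (`R = O_{p'}(G)`).
-/

set_option autoImplicit false
set_option linter.style.haveILetI false

namespace Cfsg.Agent.H266

open Subgroup Cfsg

universe u

theorem isSolvable_of_sup_eq_top {G : Type*} [Group G] {N C : Subgroup G} [N.Normal]
    (hN : Group.IsSolvable ↥N) (hC : Group.IsSolvable ↥C) (h : N ⊔ C = ⊤) : Group.IsSolvable G := by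
  have h1 : Function.Surjective ((QuotientGroup.mk' N).comp C.subtype) := by
    intro q
    obtain ⟨g, rfl⟩ := QuotientGroup.mk'_surjective N q
    have hg : g ∈ N ⊔ C := by rw [h]; exact mem_top g
    obtain ⟨n, hn, c, hc, rfl⟩ := mem_sup_of_normal_left.1 hg
    refine ⟨⟨c, hc⟩, ?_⟩
    change QuotientGroup.mk' N c = QuotientGroup.mk' N (n * c)
    rw [map_mul]
    have h2 : QuotientGroup.mk' N n = 1 := (QuotientGroup.eq_one_iff _).2 hn
    rw [h2, one_mul]
  have h2 : Group.IsSolvable (G ⧸ N) := Group.isSolvable_of_surjective h1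
  exact Group.isSolvable_of_ker_le_range N.subtype (QuotientGroup.mk' N) (by rw [QuotientGroup.ker_mk', range_subtype])

theorem isSolvable_sup {G : Type*} [Group G] {A B : Subgroup G} (hA : Group.IsSolvable A)
    (hB : Group.IsSolvable B) (hn : B ≤ normalizer (A : Set G)) : Group.IsSolvable (A ⊔ B : Subgroup G) := by
  have hAL : A ≤ A ⊔ B := le_sup_left
  have hBL : B ≤ A ⊔ B := le_sup_right
  have hN : (A.subgroupOf (A ⊔ B)).Normal := normal_subgroupOf_of_le_normalizer (sup_le le_normalizer hn)
  have hA' : Group.IsSolvable (A.subgroupOf (A ⊔ B)) :=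
    Group.isSolvable_of_surjective (f := (subgroupOfEquivOfLe hAL).symm.toMonoidHom)
      (subgroupOfEquivOfLe hAL).symm.surjective
  have hB' : Group.IsSolvable (B.subgroupOf (A ⊔ B)) :=
    Group.isSolvable_of_surjective (f := (subgroupOfEquivOfLe hBL).symm.toMonoidHom)
      (subgroupOfEquivOfLe hBL).symm.surjective
  exact isSolvable_of_sup_eq_top hA' hB' (by rw [← subgroupOf_sup hAL hBL, subgroupOf_self])

namespace EC

variable {G : Type u} [Group G] {p : ℕ} {H R : Subgroup G}

theorem isSolvable_self (h : EC p H) : Group.IsSolvable H :=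
  Group.isSolvable_of_comm fun a b => Subtype.ext (h.ab a a.2 b b.2)

theorem isSolvable_commutator [Finite G] [Fact p.Prime] (hp : p ≠ 2) (h : EC p H) (hRn : R.Normal)
    (hR : (Nat.card R).Coprime p) : Group.IsSolvable (⁅R, H⁆ : Subgroup G) := by
  have hfix := h.commutator_inf_centralizer hp hRn hR
  have hnorm := Lib.CoprimeCommutator.right_le_normalizer_commutator R H
  have hKR : ⁅R, H⁆ ≤ R := commutator_le_left R H
  obtain ⟨K, hK⟩ : ∃ K : Subgroup G, ⁅R, H⁆ = K := ⟨_, rfl⟩
  rw [hK] at hfix hnorm hKR ⊢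
  letI act : MulDistribMulAction H K := MulDistribMulAction.compHom K
    (H594.Glau.conjAut K H fun s hs g hg => mem_pow_conj (hnorm hs) hg)
  have hact : ∀ (s : H) (g : K), ((s • g : K) : G) = s * g * (s : G)⁻¹ := fun _ _ => rfl
  refine S4319.result (A := H) (G := K) ?_ (Or.inr ?_)
  · exact h.coprime_card (Nat.Coprime.coprime_dvd_left (card_dvd_of_le hKR) hR)
  · have h1 : FixedPoints.subgroup H K = ⊥ := by
      rw [eq_bot_iff]
      intro c hc
      have h2 : (c : G) ∈ K ⊓ centralizer (H : Set G) := by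
        refine mem_inf.2 ⟨c.2, mem_centralizer_iff.2 fun y hy => ?_⟩
        have h3 := congrArg Subtype.val (hc ⟨y, hy⟩)
        rw [hact] at h3
        exact mul_inv_eq_iff_eq_mul.1 h3
      rw [hfix, mem_bot] at h2
      exact mem_bot.2 (Subtype.ext h2)
    rw [h1, card_bot]
    exact odd_one

theorem solvable_normal [Finite G] [Fact p.Prime] (h : EC p H) :
    ∃ N : Subgroup G, N.Normal ∧ Group.IsSolvable ↥N ∧ H ≤ N := by
  refine ⟨H ⊔ ⁅pPrimeCore p G, H⁆, normal_sup inferInstance h.fac, ?_, le_sup_left⟩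
  have h1 : Group.IsSolvable (⁅pPrimeCore p G, H⁆ : Subgroup G) := by
    by_cases hp : p = 2
    · subst hp
      refine S0205.result ?_
      have h2 : Nat.card (⁅pPrimeCore 2 G, H⁆ : Subgroup G) ∣ Nat.card (pPrimeCore 2 G) :=
        card_dvd_of_le (commutator_le_left _ _)
      exact Nat.coprime_two_right.1 (Nat.Coprime.coprime_dvd_left h2 (Lib.Cores.pPrimeCore_coprime 2))
    · exact h.isSolvable_commutator hp inferInstance (Lib.Cores.pPrimeCore_coprime p)
  rw [sup_comm]
  exact isSolvable_sup h1 h.isSolvable_self (Lib.CoprimeCommutator.right_le_normalizer_commutator _ _)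

end EC

end Cfsg.Agent.H266
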