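import Mathlib.GroupTheory.Transfer
import Mathlib.GroupTheory.OrderOfElement
import Mathlib.Data.Nat.Prime.Basic

/-!
# A relative form of the transfer argument of Frobenius and Wielandt

`transfer_ne_one`: let `φ : M → A` be a nontrivial homomorphism from a subgroup `M` of a finite group `G` to a
commutative group such that for `g ∉ M` and `x ∈ M ∩ gMg⁻¹` one has `φ x = 1` or `φ (g⁻¹xg) = 1`. Then the transfer
`G → A` of `φ` is not trivial.
-/

set_option autoImplicit false

namespace Cfsg.Agent.H266.TransferIdx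

open Subgroup MonoidHom MulAction

theorem transfer_ne_one {G : Type*} [Group G] [Finite G] (M : Subgroup G) {A : Type*} [CommGroup A]
    (φ : M →* A) (hφ : ∃ m, φ m ≠ 1)
    (h : ∀ g : G, g ∉ M → ∀ (x : G) (hx : x ∈ M) (hx' : g⁻¹ * x * g ∈ M),
      φ ⟨x, hx⟩ = 1 ∨ φ ⟨g⁻¹ * x * g, hx'⟩ = 1) :
    ∃ x : G, transfer φ x ≠ 1 := by
  classical
  -- an element of smallest order
  obtain ⟨m₀, hm₀⟩ := hφ
  have hex : ∃ n : ℕ, ∃ m : M, φ m ≠ 1 ∧ orderOf (m : G) = n := ⟨_, m₀, hm₀, rfl⟩
  obtain ⟨m, hm, hmn⟩ := Nat.find_spec hex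
  have hmin : ∀ m' : M, orderOf (m' : G) < orderOf (m : G) → φ m' = 1 := by
    intro m' hlt
    by_contra hne
    exact Nat.find_min hex (by rw [← hmn]; exact hlt) ⟨m', hne, rfl⟩
  refine ⟨(m : G), ?_⟩
  have : Fintype (Quotient (orbitRel (zpowers (m : G)) (G ⧸ M))) := Fintype.ofFinite _
  rw [transfer_eq_prod_quotient_orbitRel_zpowers_quot]
  let q₀ : Quotient (orbitRel (zpowers (m : G)) (G ⧸ M)) := Quotient.mk _ ((1 : G) : G ⧸ M)
  have hpos : 0 < orderOf (m : G) := orderOf_pos _
  rw [Finset.prod_eq_single q₀]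
  · -- the base orbit
    have hc : q₀.out = ((1 : G) : G ⧸ M) := by
      have h1 : (orbitRel (zpowers (m : G)) (G ⧸ M)).r q₀.out ((1 : G) : G ⧸ M) :=
        Quotient.exact (Quotient.out_eq q₀)
      obtain ⟨⟨z, hz⟩, hz'⟩ := h1
      obtain ⟨k, rfl⟩ := Subgroup.mem_zpowers_iff.mp hz
      rw [← hz']
      change ((m : G) ^ k) • ((1 : G) : G ⧸ M) = _
      rw [MulAction.Quotient.smul_mk, smul_eq_mul, mul_one]
      rw [QuotientGroup.eq]
      simpa using (M.inv_mem (M.zpow_mem m.2 k))
    have hn : Function.minimalPeriod ((m : G) • ·) q₀.out = 1 := by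
      rw [hc, Function.minimalPeriod_eq_one_iff_isFixedPt]
      change (m : G) • ((1 : G) : G ⧸ M) = _
      rw [MulAction.Quotient.smul_mk, smul_eq_mul, mul_one, QuotientGroup.eq]
      simp
    have hg : q₀.out.out ∈ M := by
      have h2 : ((q₀.out.out : G) : G ⧸ M) = ((1 : G) : G ⧸ M) := by
        rw [QuotientGroup.out_eq', hc]
      have h3 := (QuotientGroup.eq.mp h2.symm)
      simpa using h3
    have heq : (⟨q₀.out.out⁻¹ * (m : G) ^ Function.minimalPeriod ((m : G) • ·) q₀.out * q₀.out.out,
        QuotientGroup.out_conj_pow_minimalPeriod_mem M (m : G) q₀.out⟩ : M) =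
        (⟨q₀.out.out, hg⟩ : M)⁻¹ * m * ⟨q₀.out.out, hg⟩ := by
      apply Subtype.ext
      simp only [hn, pow_one, Subgroup.coe_mul, Subgroup.coe_inv]
    rw [heq, map_mul, map_mul, map_inv, mul_comm, mul_inv_cancel_left]
    exact hm
  · -- the other orbits
    intro q _ hq
    set c := q.out with hcdef
    set g : G := c.out with hgdef
    have hcg : ((g : G) : G ⧸ M) = c := by rw [hgdef, QuotientGroup.out_eq']
    have hgM : g ∉ M := by
      intro hgM
      apply hq
      have h1 : c = ((1 : G) : G ⧸ M) := by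
        rw [← hcg, QuotientGroup.eq]
        simpa using hgM
      rw [← Quotient.out_eq q, ← hcdef, h1]
    by_cases hn : Function.minimalPeriod ((m : G) • ·) c = 1
    · have hmem := QuotientGroup.out_conj_pow_minimalPeriod_mem M (m : G) c
      have hmem' : g⁻¹ * (m : G) * g ∈ M := by
        rw [hn, pow_one] at hmem
        exact hmem
      have := (h g hgM (m : G) m.2 hmem').resolve_left hm
      rw [← this]
      congr 1
      apply Subtype.ext
      simp only [hn, pow_one, ← hgdef]
    · apply hmin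
      simp only
      have hdvd : Function.minimalPeriod ((m : G) • ·) c ∣ orderOf (m : G) := by
        apply Function.IsPeriodicPt.minimalPeriod_dvd
        change ((m : G) • ·)^[orderOf (m : G)] c = c
        rw [smul_iterate, pow_orderOf_eq_one]
        simp
      have hord : orderOf (g⁻¹ * (m : G) ^ Function.minimalPeriod ((m : G) • ·) c * g) =
          orderOf ((m : G) ^ Function.minimalPeriod ((m : G) • ·) c) := by
        have := orderOf_injective (MulAut.conj g⁻¹).toMonoidHom (MulAut.conj g⁻¹).injective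
          ((m : G) ^ Function.minimalPeriod ((m : G) • ·) c)
        rw [← this]
        congr 1
        simp
      rw [hord, orderOf_pow, Nat.gcd_eq_right hdvd]
      apply Nat.div_lt_self hpos
      have h0 : 0 < Function.minimalPeriod ((m : G) • ·) c := Nat.pos_of_dvd_of_pos hdvd hpos
      omega
  · intro hq
    exact absurd (Finset.mem_univ _) hq

end Cfsg.Agent.H266.TransferIdx
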